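import Cfsg.Agent.Lib.Walter.PairsX
import Cfsg.Agent.Lib.Walter66.PSLFacts
import Cfsg.Agent.Lib.PushUpP.Psl
import Cfsg.Agent.Lib.Balance.Basic
import Cfsg.Agent.Lib.OddOrder.FeitThompson

/-!
# Section B: groups with `O(X) = 1` and Sylow 2-subgroups of order 8

`X` is `Good`, `T` is elementary of order 8.  The centralizer of an involution `t` is non-solvable
only if `t` is central or all involutions are conjugate and `O(C(t)) = 1` (`dichotomy`).
Owner: helper66.
-/

set_option autoImplicit false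
set_option linter.style.haveILetI false
set_option linter.unusedSectionVars false

universe u

namespace Cfsg.Agent.Lib.Walter.JRBal

open Subgroup

variable {X : Type u} [Group X] [Finite X]

/-- `T` is a Sylow 2-subgroup, elementary of order 8. -/
structure Eight (T : Sylow 2 X) : Prop where
  card : Nat.card ↥(T : Subgroup X) = 8
  sq : ∀ a ∈ (T : Subgroup X), a * a = 1

variable {T : Sylow 2 X} {K : Subgroup X}

theorem solvable_of_hom {C Y : Type*} [Group C] [Group Y] (f : C →* Y) (hk : Group.IsSolvable f.ker)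
    (hY : Group.IsSolvable Y) : Group.IsSolvable C :=
  solvable_of_ker_le_range f.ker.subtype f (by rw [range_subtype])

/-- Odd normal subgroups are trivial. -/
theorem eq_bot_of_odd_normal (hX : Pairs.Good X) (N : Subgroup X) [N.Normal]
    (h : Odd (Nat.card N)) : N = ⊥ :=
  le_bot_iff.1 (hX.core ▸ Cores.le_pPrimeCore (Nat.coprime_two_right.2 h))

theorem comp_eq (hX : Pairs.Good X) (h8 : Eight T) (hK : Cfsg.IsComponent K) {K' : Subgroup X}
    (hK' : Cfsg.IsComponent K') : K' = K := by
  by_contra hne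
  have h1 := Components.Component.le_centralizer_of_ne hK' hK hne
  have hd : Disjoint ((T : Subgroup X) ⊓ K) ((T : Subgroup X) ⊓ K') := disjoint_iff.2
    ((eq_bot_iff_forall _).2 fun x hx => hX.inf_centralizer hK hx.1.2 (h1 hx.2.2))
  have hn : (T : Subgroup X) ⊓ K ≤ normalizer (((T : Subgroup X) ⊓ K' : Subgroup X) : Set X) :=
    fun a ha => mem_normalizer_iff.2 fun b => by
      constructor
      · intro hb; rw [hX.comm T ha.1 hb.1, mul_inv_cancel_right]; exact hb
      · intro hb
        have hbT : b ∈ (T : Subgroup X) := by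
          have h2 := mul_mem (mul_mem (Subgroup.inv_mem _ ha.1) hb.1) ha.1
          simpa [mul_assoc] using h2
        rwa [hX.comm T ha.1 hbT, mul_inv_cancel_right] at hb
  have hle : ((T : Subgroup X) ⊓ K) ⊔ ((T : Subgroup X) ⊓ K') ≤ (T : Subgroup X) :=
    sup_le inf_le_left inf_le_left
  have h2 := card_le_of_le hle
  rw [Coprime.card_sup_of_disjoint hn hd, h8.card] at h2
  have h3 := Nat.mul_le_mul (hX.four_le_inf hK T) (hX.four_le_inf hK' T)
  omega

theorem comp_normal (hX : Pairs.Good X) (h8 : Eight T) (hK : Cfsg.IsComponent K) : K.Normal :=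
  ⟨fun k hk g => by
    have h := comp_eq hX h8 hK (Components.Component.conj hK g)
    exact h ▸ mem_map_of_mem _ hk⟩

/-- The product decomposition of the Sylow subgroup, in orders. -/
theorem card_split (hX : Pairs.Good X) (h8 : Eight T) (hK : Cfsg.IsComponent K) :
    Nat.card ((T : Subgroup X) ⊓ K : Subgroup X) *
      Nat.card ((T : Subgroup X) ⊓ centralizer (K : Set X) : Subgroup X) = 8 := by
  have hd : Disjoint ((T : Subgroup X) ⊓ K) ((T : Subgroup X) ⊓ centralizer (K : Set X)) :=
    disjoint_iff.2 ((eq_bot_iff_forall _).2 fun x hx => hX.inf_centralizer hK hx.1.2 hx.2.2)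
  have hsupT : ((T : Subgroup X) ⊓ K) ⊔ ((T : Subgroup X) ⊓ centralizer (K : Set X)) = (T : Subgroup X) := by
    refine le_antisymm (sup_le inf_le_left inf_le_left) fun t ht => ?_
    obtain ⟨k, hk, c, hc, rfl⟩ := hX.exists_split hK T ht
    exact mul_mem (mem_sup_left hk) (mem_sup_right hc)
  rw [← Coprime.card_sup_of_disjoint ?_ hd]
  · rw [hsupT, h8.card]
  · intro a ha
    refine mem_normalizer_iff.2 fun b => ⟨fun hb => ?_, fun hb => ?_⟩
    · rw [hX.comm T ha.1 hb.1, mul_inv_cancel_right]; exact hb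
    · have hbT : b ∈ (T : Subgroup X) := by
        have h2 := mul_mem (mul_mem (Subgroup.inv_mem _ ha.1) hb.1) ha.1
        simpa [mul_assoc] using h2
      rwa [hX.comm T ha.1 hbT, mul_inv_cancel_right] at hb

theorem card_inf_cases (hX : Pairs.Good X) (h8 : Eight T) (hK : Cfsg.IsComponent K) :
    Nat.card ((T : Subgroup X) ⊓ K : Subgroup X) = 4 ∧
        Nat.card ((T : Subgroup X) ⊓ centralizer (K : Set X) : Subgroup X) = 2 ∨
      Nat.card ((T : Subgroup X) ⊓ K : Subgroup X) = 8 ∧
        Nat.card ((T : Subgroup X) ⊓ centralizer (K : Set X) : Subgroup X) = 1 := by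
  have h := card_split hX h8 hK
  have h4 := hX.four_le_inf hK T
  have hc : 0 < Nat.card ((T : Subgroup X) ⊓ centralizer (K : Set X) : Subgroup X) := Nat.card_pos
  set a := Nat.card ((T : Subgroup X) ⊓ K : Subgroup X)
  set b := Nat.card ((T : Subgroup X) ⊓ centralizer (K : Set X) : Subgroup X)
  have hb : b ≤ 2 := by nlinarith
  interval_cases b <;> omega

/-- If `T ∩ C(K)` has order 2, it is `C(K)` and is central. -/
theorem centralizer_eq (hX : Pairs.Good X) (h8 : Eight T) (hK : Cfsg.IsComponent K)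
    (h2 : Nat.card ((T : Subgroup X) ⊓ centralizer (K : Set X) : Subgroup X) = 2) :
    ∀ c : X, c ∈ centralizer (K : Set X) →
      c ∈ (T : Subgroup X) ∧ c ∈ Subgroup.center X := by
  haveI : Fact (Nat.Prime 2) := ⟨Nat.prime_two⟩
  haveI := comp_normal hX h8 hK
  set C := centralizer (K : Set X) with hC
  haveI : C.Normal := Subgroup.normal_centralizer
  obtain ⟨P, hP⟩ := Pairs.exists_sylow_subnormal T (Subgroup.Normal.isSubnormal (H := C) inferInstance)
  have hPc : Nat.card ↥(P : Subgroup C) = 2 := by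
    rw [hP, ← card_map_of_injective C.subtype_injective, subgroupOf_map_subtype, h2]
  have hPn : normalizer ((P : Subgroup C) : Set C) ≤ centralizer ((P : Subgroup C) : Set C) := by
    intro n hn
    refine mem_centralizer_iff.2 fun q hq => ?_
    obtain ⟨a, b, hab, hall⟩ := Nat.card_eq_two_iff.1 hPc
    by_cases hq1 : q = 1
    · rw [hq1, one_mul, mul_one]
    have hmem := (mem_normalizer_iff.1 hn q).1 hq
    have hne : n * q * n⁻¹ ≠ 1 := fun h => hq1 (conj_eq_one_iff.1 h)
    have key : ∀ u v : (P : Subgroup C), (u : C) ≠ 1 → (v : C) ≠ 1 → u = v := by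
      intro u v hu hv
      have hm : ∀ w : (P : Subgroup C), w = a ∨ w = b := fun w => by
        have : w ∈ ({a, b} : Set (P : Subgroup C)) := hall ▸ Set.mem_univ w
        simpa using this
      rcases hm 1 with h1 | h1 <;> rcases hm u with hu' | hu' <;> rcases hm v with hv' | hv' <;>
        first
        | exact hu'.trans hv'.symm
        | exact absurd (congrArg Subtype.val (hu'.trans h1.symm)) hu
        | exact absurd (congrArg Subtype.val (hv'.trans h1.symm)) hv
    have h := congrArg Subtype.val (key ⟨_, hmem⟩ ⟨q, hq⟩ hne hq1)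
    exact (mul_inv_eq_iff_eq_mul.1 h).symm
  have hcompl := MonoidHom.ker_transferSylow_isComplement' P hPn
  set N := (MonoidHom.transferSylow P hPn).ker
  have hNodd : Odd (Nat.card N) := by
    rw [← Nat.not_even_iff_odd, even_iff_two_dvd, ← hcompl.index_eq_card]
    exact P.not_dvd_index
  have hN : N = ⊥ := by
    have h1 : N ≤ Cfsg.pPrimeCore 2 C := Cores.le_pPrimeCore (Nat.coprime_two_right.2 hNodd)
    have h2 : Balance.coreIn 2 C ≤ Balance.coreIn 2 (⊤ : Subgroup X) :=
      Balance.coreIn_le_coreIn le_top (le_of_eq (normalizer_eq_top_iff.2 inferInstance).symm)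
    rw [Balance.coreIn_top] at h2
    refine (eq_bot_iff_forall _).2 fun x hx => Subtype.ext ?_
    exact mem_bot.1 (hX.core ▸ h2 (mem_map_of_mem _ (h1 hx)))
  have hPtop : (P : Subgroup C) = ⊤ := by
    rw [hN, isComplement'_bot_left] at hcompl
    exact hcompl
  intro c hc
  have hcT : c ∈ (T : Subgroup X) := by
    have h3 : (⟨c, hc⟩ : C) ∈ (P : Subgroup C) := hPtop ▸ mem_top _
    rw [hP] at h3
    exact mem_subgroupOf.1 h3
  refine ⟨hcT, ?_⟩
  by_cases hc1 : c = 1
  · rw [hc1]; exact one_mem _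
  refine mem_center_iff.2 fun g => ?_
  have hg : g * c * g⁻¹ ∈ C := Subgroup.Normal.conj_mem inferInstance c hc g
  have hg1 : g * c * g⁻¹ ≠ 1 := fun h => hc1 (conj_eq_one_iff.1 h)
  have hg2 : (⟨g * c * g⁻¹, hg⟩ : C) ∈ (P : Subgroup C) := hPtop ▸ mem_top _
  rw [hP] at hg2
  obtain ⟨a, b, hab, hall⟩ := Nat.card_eq_two_iff.1 h2
  have hm : ∀ w : ((T : Subgroup X) ⊓ C : Subgroup X), w = a ∨ w = b := fun w => by
    have : w ∈ ({a, b} : Set ((T : Subgroup X) ⊓ C : Subgroup X)) := hall ▸ Set.mem_univ w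
    simpa using this
  have he : g * c * g⁻¹ = c := by
    set u : ((T : Subgroup X) ⊓ C : Subgroup X) := ⟨g * c * g⁻¹, mem_subgroupOf.1 hg2, hg⟩
    set v : ((T : Subgroup X) ⊓ C : Subgroup X) := ⟨c, hcT, hc⟩
    rcases hm 1 with h1 | h1 <;> rcases hm u with hu | hu <;> rcases hm v with hv | hv <;>
      first
      | exact congrArg Subtype.val (hu.trans hv.symm)
      | exact absurd (congrArg Subtype.val (hu.trans h1.symm)) hg1
      | exact absurd (congrArg Subtype.val (hv.trans h1.symm)) hc1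
  exact mul_inv_eq_iff_eq_mul.1 he

theorem centralizer_eq_bot (hX : Pairs.Good X) (h8 : Eight T) (hK : Cfsg.IsComponent K)
    (h1 : Nat.card ((T : Subgroup X) ⊓ centralizer (K : Set X) : Subgroup X) = 1) :
    centralizer (K : Set X) = ⊥ := by
  haveI : Fact (Nat.Prime 2) := ⟨Nat.prime_two⟩
  haveI := comp_normal hX h8 hK
  haveI : (centralizer (K : Set X)).Normal := Subgroup.normal_centralizer
  refine eq_bot_of_odd_normal hX _ ?_
  obtain ⟨P, hP⟩ := Pairs.exists_sylow_subnormal T
    (Subgroup.Normal.isSubnormal (H := centralizer (K : Set X)) inferInstance)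
  have hPc : Nat.card ↥(P : Subgroup (centralizer (K : Set X))) = 1 := by
    rw [hP, ← card_map_of_injective (centralizer (K : Set X)).subtype_injective,
      subgroupOf_map_subtype, h1]
  rw [← Nat.not_even_iff_odd, even_iff_two_dvd]
  intro h2
  have := P.dvd_card_of_dvd_card h2
  rw [hPc] at this
  omega

theorem exists_component (hX : Pairs.Good X) (h8 : Eight T) (hns : ¬ Group.IsSolvable X) :
    ∃ K : Subgroup X, Cfsg.IsComponent K := by
  haveI : Fact (Nat.Prime 2) := ⟨Nat.prime_two⟩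
  by_contra hno
  push Not at hno
  have hl : Cfsg.layer X = ⊥ := by
    refine sSup_eq_bot.2 fun K hK => absurd hK (hno K)
  have hF : Cfsg.generalizedFittingSubgroup X = (T : Subgroup X) := by
    refine le_antisymm ?_ (hX.sylow_le_fstar T)
    rw [Cfsg.generalizedFittingSubgroup, hl, bot_sup_eq]
    exact hX.fitting_le T
  haveI : (T : Subgroup X).Normal := hF ▸ by
    haveI := Components.GenFitting.generalizedFitting_characteristic (G := X)
    infer_instance
  apply hns
  haveI := hX.abelian T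
  refine solvable_of_hom (QuotientGroup.mk' (T : Subgroup X)) ?_ ?_
  · rw [QuotientGroup.ker_mk']
    exact Coprime.isSolvable_of_isPGroup T.2
  · refine OddOrder.FeitThompson.isSolvable_of_odd_card ?_
    rw [← index_eq_card, ← Nat.not_even_iff_odd, even_iff_two_dvd]
    exact T.not_dvd_index

theorem not_solvable_of_component (hK : Cfsg.IsComponent K) : ¬ Group.IsSolvable X := fun _ =>
  Components.Component.not_isSolvable hK inferInstance

/-- The key dichotomy. -/
theorem dichotomy (hX : Pairs.Good X) (h8 : Eight T) {t : X} (ht : t ∈ (T : Subgroup X))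
    (ht1 : t ≠ 1) (hns : ¬ Group.IsSolvable ↥(centralizer ({t} : Set X))) :
    (t ∈ Subgroup.center X ∧ ∃ K : Subgroup X, Cfsg.IsComponent K) ∨
      ((∀ u ∈ (T : Subgroup X), u ≠ 1 → ∃ g : X, g * t * g⁻¹ = u) ∧
        Cfsg.centralizerPPrimeCore 2 t = ⊥) := by
  haveI : Fact (Nat.Prime 2) := ⟨Nat.prime_two⟩
  obtain ⟨K, hK⟩ := exists_component hX h8 fun _ => hns inferInstance
  have hKn := comp_normal hX h8 hK
  haveI := hKn
  have hf := hX.facts hK
  obtain ⟨Q, hQ⟩ := Pairs.exists_sylow_subnormal T hK.1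
  have hQc : Nat.card ↥(Q : Subgroup K) = Nat.card ((T : Subgroup X) ⊓ K : Subgroup X) := by
    rw [hQ, ← card_map_of_injective K.subtype_injective, subgroupOf_map_subtype]
  rcases card_inf_cases hX h8 hK with ⟨h4, h2⟩ | ⟨h8', h1⟩
  · refine Or.inl ⟨?_, K, hK⟩
    by_contra htc
    obtain ⟨k, hk, c, hc, rfl⟩ := hX.exists_split hK T ht
    have hcz := (centralizer_eq hX h8 hK h2 c hc.2).2
    have hk1 : k ≠ 1 := fun h => htc (by rw [h, one_mul]; exact hcz)
    have hk2 : orderOf (⟨k, hk.2⟩ : K) = 2 :=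
      orderOf_eq_prime (Subtype.ext (by simpa [pow_two] using h8.sq k hk.1))
        (fun h => hk1 (congrArg Subtype.val h))
    have hJ : ¬ IsJR ↥K := fun h => by
      have := h.card_sylow Q
      rw [hQc, h4] at this
      omega
    have hsol := hf.solvable hJ _ hk2
    apply hns
    have hsub : centralizer ({k * c} : Set X) ≤ centralizer ({k} : Set X) := by
      intro g hg
      rw [mem_centralizer_singleton_iff] at hg ⊢
      rw [← mul_assoc, mul_assoc k c g, ← mem_center_iff.1 hcz g, ← mul_assoc] at hg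
      exact mul_right_cancel hg
    set C := centralizer ({k * c} : Set X) with hC
    refine solvable_of_hom ((QuotientGroup.mk' K).comp C.subtype) ?_ ?_
    · let φ : ((QuotientGroup.mk' K).comp C.subtype).ker →*
          ↥(centralizer ({(⟨k, hk.2⟩ : K)} : Set K)) :=
        { toFun := fun x => ⟨⟨((x : C) : X), (QuotientGroup.eq_one_iff _).1 x.2⟩,
            mem_centralizer_singleton_iff.2 (Subtype.ext
              (mem_centralizer_singleton_iff.1 (hsub (x : C).2)))⟩
          map_one' := rfl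
          map_mul' := fun _ _ => rfl }
      haveI := hsol
      refine solvable_of_solvable_injective (f := φ) fun a b h => ?_
      have h' := congrArg Subtype.val (congrArg Subtype.val h)
      exact Subtype.ext (Subtype.ext h')
    · -- `X ⧸ K` has Sylow 2-subgroup of order at most 2
      have hKc : (T : Subgroup X) ≤ K ⊔ centralizer (K : Set X) := fun x hx => by
        obtain ⟨a, ha, b, hb, rfl⟩ := hX.exists_split hK T hx
        exact mul_mem (mem_sup_left ha.2) (mem_sup_right hb.2)
      haveI : (centralizer (K : Set X)).Normal := Subgroup.normal_centralizer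
      refine solvable_of_hom (QuotientGroup.mk' ((K ⊔ centralizer (K : Set X)).map (QuotientGroup.mk' K))) ?_ ?_
      · rw [QuotientGroup.ker_mk']
        have hcomm : ∀ a ∈ centralizer (K : Set X), ∀ b ∈ centralizer (K : Set X), a * b = b * a :=
          fun a ha b _ => (mem_center_iff.1 (centralizer_eq hX h8 hK h2 a ha).2 b).symm
        haveI : IsMulCommutative ↥((K ⊔ centralizer (K : Set X)).map (QuotientGroup.mk' K)) := by
          rw [Subgroup.map_sup, QuotientGroup.map_mk'_self, bot_sup_eq]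
          refine ⟨⟨?_⟩⟩
          rintro ⟨_, a, ha, rfl⟩ ⟨_, b, hb, rfl⟩
          exact Subtype.ext (by
            show QuotientGroup.mk' K a * QuotientGroup.mk' K b = _
            rw [← map_mul, hcomm a ha b hb, map_mul]
            rfl)
        exact Coprime.isSolvable_of_isMulCommutative _
      · refine OddOrder.FeitThompson.isSolvable_of_odd_card ?_
        rw [← index_eq_card, index_map_eq _ (QuotientGroup.mk'_surjective K)
          (by rw [QuotientGroup.ker_mk']; exact le_sup_left), ← Nat.not_even_iff_odd,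
          even_iff_two_dvd]
        exact fun h => T.not_dvd_index (h.trans (index_dvd_of_le hKc))
  · refine Or.inr ⟨fun u hu hu1 => ?_, ?_⟩
    all_goals
      have hTK : (T : Subgroup X) ≤ K := by
        have h := eq_of_le_of_card_ge (inf_le_left : (T : Subgroup X) ⊓ K ≤ T) (by rw [h8', h8.card])
        exact h ▸ inf_le_right
    · obtain ⟨n, -, -, htr⟩ := hX.exists_torus hK T
      obtain ⟨j, hj⟩ := htr t ⟨ht, hTK ht⟩ ht1 u ⟨hu, hTK hu⟩ hu1
      exact ⟨n ^ j, hj⟩
    · have h8Q : ∀ P : Sylow 2 K, 8 ≤ Nat.card ↥(P : Subgroup K) := fun P => by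
        rw [Nat.card_congr (Sylow.equiv P Q).toEquiv, hQc, h8']
      have ht2 : orderOf (⟨t, hTK ht⟩ : K) = 2 :=
        orderOf_eq_prime (Subtype.ext (by simpa [pow_two] using h8.sq t ht))
          (fun h => ht1 (congrArg Subtype.val h))
      set Y := Cfsg.centralizerPPrimeCore 2 t with hY
      have hYodd : Odd (Nat.card Y) := Nat.coprime_two_right.1 (Balance.coreIn_coprime _)
      have hYn : centralizer ({t} : Set X) ≤ normalizer (Y : Set X) :=
        Balance.centralizer_le_normalizer_centralizerPPrimeCore t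
      have hYc : Y ≤ centralizer ({t} : Set X) := Balance.centralizerPPrimeCore_le t
      have hYK : ∀ y ∈ Y, y ∈ K → y = 1 := by
        intro y hy hyK
        have hle : Y.subgroupOf K ≤ Cfsg.centralizerPPrimeCore 2 (⟨t, hTK ht⟩ : K) := by
          refine Balance.le_coreIn ?_ ?_ ?_
          · intro a ha
            exact mem_centralizer_singleton_iff.2 (Subtype.ext
              (mem_centralizer_singleton_iff.1 (hYc (mem_subgroupOf.1 ha))))
          · intro a ha
            refine mem_normalizer_iff.2 fun b => ?_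
            have := hYn (show (a : X) ∈ centralizer ({t} : Set X) from
              mem_centralizer_singleton_iff.2 (congrArg Subtype.val (mem_centralizer_singleton_iff.1 ha)))
            simpa [mem_subgroupOf] using mem_normalizer_iff.1 this (b : X)
          · refine Nat.coprime_two_right.2 (hYodd.of_dvd_nat ?_)
            rw [← card_map_of_injective K.subtype_injective, subgroupOf_map_subtype]
            exact card_dvd_of_le inf_le_left
        rw [hf.core h8Q _ ht2] at hle
        exact congrArg Subtype.val (mem_bot.1 (hle (mem_subgroupOf.2 hy : (⟨y, hyK⟩ : K) ∈ _)))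
      refine (eq_bot_iff_forall _).2 fun y hy => ?_
      have hfix : ∀ x : K, x * ⟨t, hTK ht⟩ = ⟨t, hTK ht⟩ * x → y * (x : X) = (x : X) * y := by
        intro x hx
        have hxC : (x : X) ∈ centralizer ({t} : Set X) :=
          mem_centralizer_singleton_iff.2 (congrArg Subtype.val hx)
        have h1 : y * (x : X) * y⁻¹ * (x : X)⁻¹ ∈ K :=
          mul_mem (hKn.conj_mem _ x.2 y) (inv_mem x.2)
        have h2 : y * (x : X) * y⁻¹ * (x : X)⁻¹ ∈ Y := by
          rw [show y * (x : X) * y⁻¹ * (x : X)⁻¹ = y * ((x : X) * y⁻¹ * (x : X)⁻¹) by group]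
          exact mul_mem hy ((mem_normalizer_iff.1 (hYn hxC) _).1 (inv_mem hy))
        exact mul_inv_eq_iff_eq_mul.1 (mul_inv_eq_one.1 (hYK _ h2 h1))
      have hα := hf.aut _ ht2 (MulAut.conjNormal y)
        ((hYodd.of_dvd_nat (Subgroup.orderOf_dvd_natCard _ hy)).of_dvd_nat (orderOf_map_dvd _ y))
        (fun x hx => Subtype.ext (by
          rw [MulAut.conjNormal_apply, hfix x hx, mul_inv_cancel_right]))
      have hyC : y ∈ centralizer (K : Set X) := mem_centralizer_iff.2 fun a ha => by
        have := congrArg Subtype.val (DFunLike.congr_fun hα ⟨a, ha⟩)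
        rw [MulAut.conjNormal_apply] at this
        exact (mul_inv_eq_iff_eq_mul.1 this).symm
      rw [centralizer_eq_bot hX h8 hK h1, mem_bot] at hyC
      exact hyC

/-! ### The case of a central involution -/

/-- An odd type component. -/
theorem oddType (hX : Pairs.Good X) (hK : Cfsg.IsComponent K) (hkn : IsKnownA ↥K)
    (T : Sylow 2 X) (h4 : Nat.card ((T : Subgroup X) ⊓ K : Subgroup X) = 4) : IsOddType ↥K := by
  haveI : Fact (Nat.Prime 2) := ⟨Nat.prime_two⟩
  obtain ⟨Q, hQ⟩ := Pairs.exists_sylow_subnormal T hK.1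
  have hQc : Nat.card ↥(Q : Subgroup K) = 4 := by
    rw [hQ, ← card_map_of_injective K.subtype_injective, subgroupOf_map_subtype, h4]
  rcases hkn with ⟨n, F, _, _, hn, hF, ⟨e⟩⟩ | h | h
  · exfalso
    have he : Even (Fintype.card F) := by
      rw [hF, Nat.even_pow]; exact ⟨even_two, by omega⟩
    have hd : 2 ^ 3 ∣ Nat.card K := by
      rw [Nat.card_congr e.toEquiv, Linear.card_PSL_two_of_even he, hF, mul_assoc]
      exact (pow_dvd_pow 2 hn).trans (dvd_mul_right _ _)
    have := Q.pow_dvd_card_of_pow_dvd_card hd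
    rw [hQc] at this
    norm_num at this
  · exact h
  · have := h.card_sylow Q
    omega

/-- In odd type the Sylow 2-subgroup is self-centralising. -/
theorem mem_of_centralizes {L : Type u} [Group L] [Finite L] (hL : IsOddType L) (hO : OddFacts L)
    (P : Sylow 2 L) {x : L} (hx : ∀ a ∈ (P : Subgroup L), x * a = a * x) :
    x ∈ (P : Subgroup L) := by
  haveI : Fact (Nat.Prime 2) := ⟨Nat.prime_two⟩
  obtain ⟨F, _, _, hq, -, ⟨e⟩⟩ := hL
  have hodd : Odd (Fintype.card F) := Nat.odd_iff.2 (by omega)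
  have h2 : (2 : F) ≠ 0 := PSLTwo.Sylow.two_ne_zero_of_odd (Nat.odd_iff.1 hodd)
  obtain ⟨i, j, w, Q⟩ := Walter66.exists_quat (F := F) h2
  set a : L := e.symm (QuotientGroup.mk i) with ha
  set b : L := e.symm (QuotientGroup.mk j) with hb
  have ha2 : a * a = 1 := by rw [ha, ← map_mul, Q.sq_mk_i, map_one]
  have hb2 : b * b = 1 := by rw [hb, ← map_mul, Q.sq_mk_j, map_one]
  have hab : a * b = b * a := by rw [ha, hb, ← map_mul, ← map_mul, Q.comm_mk]
  have hpg : IsPGroup 2 (Subgroup.closure ({a, b} : Set L)) := by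
    haveI := Subgroup.isMulCommutative_closure (k := ({a, b} : Set L))
      (by rintro x (rfl | rfl) y (rfl | rfl) <;> first | rfl | exact hab | exact hab.symm)
    rintro ⟨y, hy⟩
    refine ⟨1, Subtype.ext ?_⟩
    show y ^ 2 ^ 1 = 1
    induction hy using Subgroup.closure_induction with
    | mem z hz => rcases hz with rfl | rfl <;> simpa [pow_two]
    | one => simp
    | mul y z hy hz iy iz =>
      have hc : Commute y z := setLike_mul_comm (s := Subgroup.closure ({a, b} : Set L)) hy hz
      rw [hc.mul_pow, iy, iz, one_mul]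
    | inv y _ iy => rw [inv_pow, iy, inv_one]
  obtain ⟨R, hR⟩ := hpg.exists_le_sylow
  obtain ⟨g, hg⟩ := MulAction.exists_smul_eq L R P
  have hmem : ∀ y ∈ (R : Subgroup L), g * y * g⁻¹ ∈ (P : Subgroup L) := fun y hy => by
    rw [← hg, Sylow.coe_subgroup_smul]
    exact Subgroup.smul_mem_pointwise_smul (a := MulAut.conj g) y _ hy
  have haR : a ∈ (R : Subgroup L) := hR (subset_closure (Or.inl rfl))
  have hbR : b ∈ (R : Subgroup L) := hR (subset_closure (Or.inr rfl))
  have hc : ∀ y ∈ (R : Subgroup L), g⁻¹ * x * g * y = y * (g⁻¹ * x * g) := fun y hy => by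
    calc g⁻¹ * x * g * y = g⁻¹ * (x * (g * y * g⁻¹)) * g := by group
      _ = g⁻¹ * ((g * y * g⁻¹) * x) * g := by rw [hx _ (hmem y hy)]
      _ = y * (g⁻¹ * x * g) := by group
  have hi := congrArg e (hc a haR)
  have hj := congrArg e (hc b hbR)
  simp only [map_mul, ha, hb, MulEquiv.apply_symm_apply] at hi hj
  have hcase := Q.centralizes h2 hi hj (PushUpP.center_psl (F := F))
  have hxR : g⁻¹ * x * g ∈ (R : Subgroup L) := by
    rw [← map_mul, ← map_mul] at hcase
    rcases hcase with h | h | h | h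
    · rw [(e.map_eq_one_iff).1 h]; exact one_mem _
    · rw [e.eq_symm_apply.2 h]; exact haR
    · rw [e.eq_symm_apply.2 h]; exact hbR
    · rw [e.eq_symm_apply.2 h, map_mul]; exact mul_mem haR hbR
  have h := hmem _ hxR
  simpa [mul_assoc] using h

/-- The hypotheses of the central case. -/
structure Central (T : Sylow 2 X) (t : X) (K : Subgroup X) : Prop where
  good : Pairs.Good X
  eight : Eight T
  comp : Cfsg.IsComponent K
  mem : t ∈ (T : Subgroup X)
  ne : t ≠ 1
  center : t ∈ Subgroup.center X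
  odd : IsOddType ↥K
  facts : OddFacts ↥K

namespace Central

variable {t : X} (h : Central T t K)
include h

theorem t_not_mem : t ∉ K := fun htK => h.ne (h.good.inf_centralizer h.comp htK
  (mem_centralizer_iff.2 fun k _ => mem_center_iff.1 h.center k))

theorem four : Nat.card ((T : Subgroup X) ⊓ K : Subgroup X) = 4 ∧
    Nat.card ((T : Subgroup X) ⊓ centralizer (K : Set X) : Subgroup X) = 2 := by
  refine (card_inf_cases h.good h.eight h.comp).resolve_right fun h8 => h.t_not_mem ?_
  have he := eq_of_le_of_card_ge (inf_le_left : (T : Subgroup X) ⊓ K ≤ T)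
    (by rw [h8.1, h.eight.card])
  exact (he ▸ inf_le_right : (T : Subgroup X) ≤ K) h.mem

theorem centralizer_le : ∀ c ∈ centralizer (K : Set X), c = 1 ∨ c = t := by
  intro c hc
  have hcT := (centralizer_eq h.good h.eight h.comp h.four.2 c hc).1
  by_contra hne
  push Not at hne
  have h2 := h.four.2
  rw [Nat.card_eq_two_iff] at h2
  obtain ⟨a, b, hab, hall⟩ := h2
  have hm : ∀ w : ((T : Subgroup X) ⊓ centralizer (K : Set X) : Subgroup X), w = a ∨ w = b :=
    fun w => by
      have : w ∈ ({a, b} : Set ((T : Subgroup X) ⊓ centralizer (K : Set X) : Subgroup X)) :=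
        hall ▸ Set.mem_univ w
      simpa using this
  set u : ((T : Subgroup X) ⊓ centralizer (K : Set X) : Subgroup X) := ⟨c, hcT, hc⟩
  set v : ((T : Subgroup X) ⊓ centralizer (K : Set X) : Subgroup X) :=
    ⟨t, h.mem, mem_centralizer_iff.2 fun k _ => mem_center_iff.1 h.center k⟩
  rcases hm 1 with h1 | h1 <;> rcases hm u with hu | hu <;> rcases hm v with hv | hv <;>
    first
    | exact hne.2 (congrArg Subtype.val (hu.trans hv.symm))
    | exact hne.1 (congrArg Subtype.val (hu.trans h1.symm))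
    | exact h.ne (congrArg Subtype.val (hv.trans h1.symm))

/-- `T = (T ∩ K)⟨t⟩`. -/
theorem split {b : X} (hb : b ∈ (T : Subgroup X)) :
    ∃ v ∈ (T : Subgroup X) ⊓ K, b = v ∨ b = v * t := by
  obtain ⟨v, hv, c, hc, rfl⟩ := h.good.exists_split h.comp T hb
  rcases h.centralizer_le c hc.2 with rfl | rfl
  · exact ⟨v, hv, Or.inl (mul_one v)⟩
  · exact ⟨v, hv, Or.inr rfl⟩

theorem comm_iff {b v : X} (hb : b = v ∨ b = v * t) (g : X) : g * b = b * g ↔ g * v = v * g := by
  rcases hb with rfl | rfl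
  · rfl
  · rw [← mul_assoc, mul_assoc v t g, ← mem_center_iff.1 h.center g, ← mul_assoc, mul_left_inj]

theorem ne_one_of {b v : X} (hb : b = v ∨ b = v * t) (h1 : b ≠ 1) (h2 : b ≠ t) : v ≠ 1 := by
  rintro rfl
  rcases hb with rfl | rfl
  · exact h1 rfl
  · exact h2 (one_mul t)

theorem orderOf_four {v : X} (hv : v ∈ (T : Subgroup X) ⊓ K) (hv1 : v ≠ 1) :
    orderOf (⟨v, hv.2⟩ : K) = 2 :=
  haveI : Fact (Nat.Prime 2) := ⟨Nat.prime_two⟩
  orderOf_eq_prime (Subtype.ext (by simpa [pow_two] using h.eight.sq v hv.1))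
    (fun e => hv1 (congrArg Subtype.val e))

/-- An element of odd order inverted by an element of `T` lies in `K`. -/
theorem mem_of_inverted {d s : X} (hd : Odd (orderOf d)) (hs : s ∈ (T : Subgroup X))
    (hi : s * d * s⁻¹ = d⁻¹) : d ∈ K := by
  have hKn := comp_normal h.good h.eight h.comp
  obtain ⟨v, hv, hsv⟩ := h.split hs
  have hd2 : d * d ∈ K := by
    have hvd : v * d * v⁻¹ = d⁻¹ := by
      rcases hsv with rfl | rfl
      · exact hi
      · calc v * d * v⁻¹ = v * (t * d * t⁻¹) * v⁻¹ := by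
              rw [← mem_center_iff.1 h.center d, mul_inv_cancel_right]
          _ = v * t * d * (v * t)⁻¹ := by group
          _ = d⁻¹ := hi
    have he : d * d = d * v * d⁻¹ * v⁻¹ := by
      calc d * d = d * (v * d * v⁻¹)⁻¹ := by rw [hvd, inv_inv]
        _ = d * v * d⁻¹ * v⁻¹ := by group
    rw [he]
    exact mul_mem (hKn.conj_mem v hv.2 d) (inv_mem hv.2)
  obtain ⟨n, hn⟩ := hd
  have h4 : d = (d * d) ^ (n + 1) := by
    rw [← pow_two, ← pow_mul, show 2 * (n + 1) = orderOf d + 1 by omega, pow_succ,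
      pow_orderOf_eq_one, one_mul]
  rw [h4]
  exact pow_mem hd2 _

/-- A non-trivial invariant odd `p`-subgroup of `K` has an inverted element of order `p`. -/
theorem exists_inverted {p : ℕ} [Fact p.Prime] (hp : p ≠ 2) {Q : Subgroup X} (hQK : Q ≤ K)
    (hQp : IsPGroup p Q) (hQ : Q ≠ ⊥) (hTQ : (T : Subgroup X) ≤ normalizer (Q : Set X)) :
    ∃ d ∈ Q, orderOf d = p ∧ ∃ s ∈ (T : Subgroup X), s * d * s⁻¹ = d⁻¹ := by
  haveI : Fact (Nat.Prime 2) := ⟨Nat.prime_two⟩
  obtain ⟨q, hq, hq1⟩ : ∃ q ∈ Q, q ≠ 1 := by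
    by_contra hc
    push Not at hc
    exact hQ ((eq_bot_iff_forall _).2 hc)
  obtain ⟨P, hP⟩ := Pairs.exists_sylow_subnormal T h.comp.1
  obtain ⟨v, hv, hvq⟩ : ∃ v ∈ (T : Subgroup X) ⊓ K, v * q * v⁻¹ ≠ q := by
    by_contra hno
    push Not at hno
    have hm := mem_of_centralizes h.odd h.facts P (x := ⟨q, hQK hq⟩) fun a ha => by
      rw [hP, mem_subgroupOf] at ha
      exact Subtype.ext (mul_inv_eq_iff_eq_mul.1 (hno (a : X) ⟨ha, a.2⟩)).symm
    rw [hP, mem_subgroupOf] at hm
    obtain ⟨i, hi⟩ := IsPGroup.iff_orderOf.1 T.2 ⟨q, hm⟩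
    obtain ⟨j, hj⟩ := IsPGroup.iff_orderOf.1 hQp ⟨q, hq⟩
    rw [Subgroup.orderOf_mk] at hi hj
    refine hq1 (orderOf_eq_one_iff.1 (Nat.eq_one_of_dvd_coprimes
      (Nat.Coprime.pow i j ((Nat.coprime_primes Nat.prime_two Fact.out).2 (Ne.symm hp)))
      hi.dvd hj.dvd))
  have hi0 : v * q * v⁻¹ * q⁻¹ ∈ Q :=
    mul_mem ((mem_normalizer_iff.1 (hTQ hv.1) q).1 hq) (inv_mem hq)
  set i := v * q * v⁻¹ * q⁻¹ with hidef
  have hvv := h.eight.sq v hv.1
  have hvi : v⁻¹ = v := inv_eq_of_mul_eq_one_right hvv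
  have hinv : v * i * v⁻¹ = i⁻¹ := by
    calc v * i * v⁻¹ = v * (v * q * v⁻¹ * q⁻¹) * v⁻¹ := rfl
      _ = (v * v) * q * v⁻¹ * q⁻¹ * v⁻¹ := by group
      _ = q * v * q⁻¹ * v⁻¹ := by rw [hvv, one_mul, hvi]
      _ = i⁻¹ := by rw [hidef]; group
  have hi1 : i ≠ 1 := fun he => hvq (mul_inv_eq_one.1 he)
  obtain ⟨k, hk⟩ := IsPGroup.iff_orderOf.1 hQp ⟨i, hi0⟩
  rw [Subgroup.orderOf_mk] at hk
  obtain ⟨k, rfl⟩ : ∃ j, k = j + 1 := Nat.exists_eq_succ_of_ne_zero fun h0 => hi1 (by
    rw [h0, pow_zero] at hk; exact orderOf_eq_one_iff.1 hk)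
  refine ⟨i ^ p ^ k, pow_mem hi0 _, ?_, v, hv.1, ?_⟩
  · rw [orderOf_pow, hk, Nat.gcd_eq_right (pow_dvd_pow p (Nat.le_succ k)), pow_succ,
      Nat.mul_div_cancel_left _ (pow_pos (Fact.out : p.Prime).pos k)]
  · rw [← conj_pow, hinv, inv_pow]

/-- A non-trivial odd subgroup normalised by a centralizer meets `K`. -/
theorem inf_ne_bot {D : Subgroup X} {x : X} (hx : x ∈ (T : Subgroup X)) (hx1 : x ≠ 1) (hxt : x ≠ t)
    (hDn : centralizer ({x} : Set X) ≤ normalizer (D : Set X)) (hDo : Odd (Nat.card D))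
    (hD : D ≠ ⊥) : D ⊓ K ≠ ⊥ := by
  intro hDK
  haveI : Fact (Nat.Prime 2) := ⟨Nat.prime_two⟩
  haveI := comp_normal h.good h.eight h.comp
  obtain ⟨v, hv, hxv⟩ := h.split hx
  have hv2 := h.orderOf_four hv (h.ne_one_of hxv hx1 hxt)
  refine hD ((eq_bot_iff_forall _).2 fun d hd => ?_)
  have hfix : ∀ k : K, k * ⟨v, hv.2⟩ = ⟨v, hv.2⟩ * k → d * (k : X) = (k : X) * d := by
    intro k hk
    have hkC : (k : X) ∈ centralizer ({x} : Set X) :=
      mem_centralizer_singleton_iff.2 ((h.comm_iff hxv _).2 (congrArg Subtype.val hk))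
    have h1 : d * (k : X) * d⁻¹ * (k : X)⁻¹ ∈ D ⊓ K := by
      refine ⟨?_, mul_mem (Subgroup.Normal.conj_mem inferInstance _ k.2 d) (Subgroup.inv_mem _ k.2)⟩
      rw [show d * (k : X) * d⁻¹ * (k : X)⁻¹ = d * ((k : X) * d⁻¹ * (k : X)⁻¹) by group]
      exact mul_mem hd ((mem_normalizer_iff.1 (hDn hkC) _).1 (inv_mem hd))
    rw [hDK, mem_bot] at h1
    exact mul_inv_eq_iff_eq_mul.1 (mul_inv_eq_one.1 h1)
  have hdo : Odd (orderOf d) := hDo.of_dvd_nat (Subgroup.orderOf_dvd_natCard _ hd)
  have hα := (h.good.facts h.comp).aut _ hv2 (MulAut.conjNormal d)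
    (hdo.of_dvd_nat (orderOf_map_dvd _ d))
    (fun k hk => Subtype.ext (by rw [MulAut.conjNormal_apply, hfix k hk, mul_inv_cancel_right]))
  have hdC : d ∈ centralizer (K : Set X) := mem_centralizer_iff.2 fun a ha => by
    have := congrArg Subtype.val (DFunLike.congr_fun hα ⟨a, ha⟩)
    rw [MulAut.conjNormal_apply] at this
    exact (mul_inv_eq_iff_eq_mul.1 this).symm
  rcases h.centralizer_le d hdC with rfl | rfl
  · rfl
  · exfalso
    have h2 : orderOf d = 2 :=
      orderOf_eq_prime (by rw [pow_two]; exact h.eight.sq d h.mem) h.ne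
    rw [h2] at hdo
    exact absurd hdo (by decide)

/-- The torus prime does not divide the index of a centralizer. -/
theorem not_dvd_index {p : ℕ} [Fact p.Prime] (hp : p ≠ 2) {d b s : X} (hd : orderOf d = p)
    (hb : b ∈ (T : Subgroup X)) (hb1 : b ≠ 1) (hbt : b ≠ t) (hdb : d * b = b * d)
    (hs : s ∈ (T : Subgroup X)) (hi : s * d * s⁻¹ = d⁻¹)
    {b' : X} (hb' : b' ∈ (T : Subgroup X)) (hb'1 : b' ≠ 1) (hb't : b' ≠ t) :
    ¬ p ∣ (centralizer ({b'} : Set X)).index := by
  haveI : Fact (Nat.Prime 2) := ⟨Nat.prime_two⟩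
  have hKn := comp_normal h.good h.eight h.comp
  haveI := hKn
  have hdK : d ∈ K := h.mem_of_inverted (hd ▸ (Fact.out : p.Prime).odd_of_ne_two hp) hs hi
  obtain ⟨v, hv, hbv⟩ := h.split hb
  obtain ⟨v', hv', hbv'⟩ := h.split hb'
  obtain ⟨n, hnK, -, htr⟩ := h.good.exists_torus h.comp T
  obtain ⟨i, hi'⟩ := htr v hv (h.ne_one_of hbv hb1 hbt) v' hv' (h.ne_one_of hbv' hb'1 hb't)
  set m := n ^ i with hm
  have hmK : m ∈ K := pow_mem hnK i
  have hCeq : centralizer ({b'} : Set X) = centralizer ({v'} : Set X) := by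
    ext g
    rw [mem_centralizer_singleton_iff, mem_centralizer_singleton_iff, h.comm_iff hbv' g]
  have hdv : d * v = v * d := (h.comm_iff hbv d).1 hdb
  have hd'v : m * d * m⁻¹ * v' = v' * (m * d * m⁻¹) := by
    rw [← hi']
    calc m * d * m⁻¹ * (m * v * m⁻¹) = m * (d * v) * m⁻¹ := by group
      _ = m * (v * d) * m⁻¹ := by rw [hdv]
      _ = m * v * m⁻¹ * (m * d * m⁻¹) := by group
  set v'' : K := ⟨v', hv'.2⟩ with hv''
  set d' : K := ⟨m * d * m⁻¹, hKn.conj_mem d hdK m⟩ with hd'
  have hd'o : orderOf d' = p := by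
    rw [hd', Subgroup.orderOf_mk, ← hd]
    exact MulEquiv.orderOf_eq (MulAut.conj m) d
  have hdvd : p ∣ Nat.card ↥(centralizer ({v''} : Set K)) := by
    have hm' : d' ∈ centralizer ({v''} : Set K) :=
      mem_centralizer_singleton_iff.2 (Subtype.ext hd'v)
    exact hd'o ▸ Subgroup.orderOf_dvd_natCard _ hm'
  have hne := h.ne_one_of hbv' hb'1 hb't
  have hidx := h.facts.index v'' (h.orderOf_four hv' hne) p Fact.out hp hdvd
  -- Frattini: `X = K C(v')`
  have hsup : K ⊔ centralizer ({v'} : Set X) = ⊤ := by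
    refine eq_top_iff.2 fun g _ => ?_
    have hu : g * v' * g⁻¹ ∈ K := hKn.conj_mem v' hv'.2 g
    obtain ⟨P, hP⟩ := Pairs.exists_sylow_subnormal T h.comp.1
    have hu2 : orderOf (⟨_, hu⟩ : K) = 2 := by
      rw [Subgroup.orderOf_mk, ← h.orderOf_four hv' hne, Subgroup.orderOf_mk]
      exact MulEquiv.orderOf_eq (MulAut.conj g) v'
    obtain ⟨R, hR⟩ := (IsPGroup.of_card (p := 2) (n := 1)
      (by rw [Nat.card_zpowers, hu2, pow_one]) : IsPGroup 2 (zpowers (⟨_, hu⟩ : K))).exists_le_sylow
    obtain ⟨k, hk⟩ := MulAction.exists_smul_eq K R P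
    have hku : k * ⟨_, hu⟩ * k⁻¹ ∈ (P : Subgroup K) := by
      rw [← hk, Sylow.coe_subgroup_smul]
      exact Subgroup.smul_mem_pointwise_smul (a := MulAut.conj k) _ _ (hR (mem_zpowers _))
    rw [hP, mem_subgroupOf] at hku
    have hku' : (k : X) * (g * v' * g⁻¹) * (k : X)⁻¹ ∈ (T : Subgroup X) ⊓ K :=
      ⟨show _ ∈ (T : Subgroup X) by simpa using hku, mul_mem (mul_mem k.2 hu) (Subgroup.inv_mem _ k.2)⟩
    obtain ⟨l, hl⟩ := htr _ hku' (fun e => by
      have := conj_eq_one_iff.1 (conj_eq_one_iff.1 e)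
      exact hne this) v' hv' hne
    have hc : n ^ l * k * g ∈ centralizer ({v'} : Set X) := by
      refine mem_centralizer_singleton_iff.2 (mul_inv_eq_iff_eq_mul.1 ?_)
      calc n ^ l * k * g * v' * (n ^ l * k * g)⁻¹
          = n ^ l * ((k : X) * (g * v' * g⁻¹) * (k : X)⁻¹) * (n ^ l)⁻¹ := by group
        _ = v' := hl
    have : g = (n ^ l * k)⁻¹ * (n ^ l * k * g) := by group
    rw [this]
    exact mul_mem (mem_sup_left (inv_mem (mul_mem (pow_mem hnK l) k.2))) (mem_sup_right hc)
  have hrel : (centralizer ({v'} : Set X)).relIndex K = (centralizer ({v'} : Set X)).index := by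
    set C := centralizer ({v'} : Set X)
    have h1 : K.relIndex C = K.index := by
      rw [← relIndex_sup_right C K, sup_comm, hsup, relIndex_top_right]
    have h2 := relIndex_mul_index (inf_le_left : C ⊓ K ≤ C)
    have h3 := relIndex_mul_index (inf_le_right : C ⊓ K ≤ K)
    rw [inf_relIndex_left, h1] at h2
    rw [inf_relIndex_right] at h3
    refine Nat.eq_of_mul_eq_mul_right (Nat.pos_of_ne_zero K.index_ne_zero_of_finite) ?_
    rw [h3, ← h2, mul_comm]
  rw [hCeq, ← hrel, relIndex]
  have hCK : (centralizer ({v'} : Set X)).subgroupOf K = centralizer ({v''} : Set K) := by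
    ext a
    rw [mem_subgroupOf, mem_centralizer_singleton_iff, mem_centralizer_singleton_iff]
    exact ⟨fun ha => Subtype.ext ha, fun ha => congrArg Subtype.val ha⟩
  rw [hCK]
  exact hidx

end Central

end Cfsg.Agent.Lib.Walter.JRBal
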