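import Cfsg.Agent.Lib.Walter.JRBalance.Sec

/-!
# Section B: the context, torus elements and the family

`Fam.central`: in a member `H` of the family `x` is central modulo `O(H)`.  Owner: helper66.
-/

set_option autoImplicit false
set_option linter.style.haveILetI false
set_option linter.unusedSectionVars false

universe u

namespace Cfsg.Agent.Lib.Walter.JRBal

open Subgroup

variable {G : Type u} [Group G] [Finite G] {S : Sylow 2 G}

/-- The context of section B. -/
structure Ctx (S : Sylow 2 G) : Prop where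
  hyp : Hyp G
  facts : PropKnownFacts.{u}
  card : Nat.card ↥(S : Subgroup G) = 8
  sq : ∀ a ∈ (S : Subgroup G), a * a = 1
  comp : ∀ a ∈ (S : Subgroup G), a ≠ 1 →
    ∃ K : Subgroup (Sec (centralizer (zpowers a : Set G))), Cfsg.IsComponent K

/-- An element of order `p` modulo `core a`, inverted there by an element of `S` and centralised by
a second involution. -/
def Tor (S : Sylow 2 G) (p : ℕ) (a : G) : Prop :=
  ∃ e b s : G, b ∈ (S : Subgroup G) ∧ b ≠ 1 ∧ b ≠ a ∧ s ∈ (S : Subgroup G) ∧ e * a = a * e ∧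
    e * b = b * e ∧ e ∉ core a ∧ e ^ p ∈ core a ∧ s * e * s⁻¹ * e ∈ core a

/-- The family of section B. -/
structure Fam (S : Sylow 2 G) (x : G) (X H : Subgroup G) : Prop where
  ne_top : H ≠ ⊤
  S_le : (S : Subgroup G) ≤ H
  cover : ∀ c : G, c * x = x * c → ∃ r ∈ core x, ∃ h ∈ H, h * x = x * h ∧ c = r * h
  X_le : X ≤ H

theorem Ctx.comm (c : Ctx S) {a b : G} (ha : a ∈ (S : Subgroup G)) (hb : b ∈ (S : Subgroup G)) :
    a * b = b * a := comm_Om (c.hyp.abelian S) ha hb

theorem Ctx.mem_Om (c : Ctx S) {a : G} (ha : a ∈ (S : Subgroup G)) : a ∈ Om S :=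
  (Walter.mem_Om (c.hyp.abelian S)).2 ⟨ha, by rw [pow_two]; exact c.sq a ha⟩

theorem sylow_le_cent (c : Ctx S) {a : G} (ha : a ∈ (S : Subgroup G)) :
    (S : Subgroup G) ≤ centralizer (zpowers a : Set G) := fun s hs => by
  rw [centralizer_zpowers]
  exact mem_centralizer_singleton_iff.2 (c.comm hs ha)

theorem cent_ne_top (c : Ctx S) {a : G} (ha1 : a ≠ 1) : centralizer (zpowers a : Set G) ≠ ⊤ :=
  c.hyp.centralizer_ne_top (by rwa [Ne, zpowers_eq_bot])

theorem mem_cent {a g : G} : g ∈ centralizer (zpowers a : Set G) ↔ g * a = a * g := by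
  rw [centralizer_zpowers, mem_centralizer_singleton_iff]

theorem coreIn_cent (a : G) : Balance.coreIn 2 (centralizer (zpowers a : Set G)) = core a := by
  rw [centralizer_zpowers]; rfl

theorem conj_mem_core {a g d : G} (hg : g * a = a * g) (hd : d ∈ core a) : g * d * g⁻¹ ∈ core a :=
  (mem_normalizer_iff.1 (centralizer_le_normalizer_core a (mem_centralizer_singleton_iff.2 hg)) d).1 hd

theorem comm_of_mem_core {a d : G} (hd : d ∈ core a) : d * a = a * d :=
  mem_centralizer_singleton_iff.1 (core_le a hd)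

/-- The component and the Frame data in the section at `a`. -/
theorem Ctx.central_cent (c : Ctx S) {a : G} (ha : a ∈ (S : Subgroup G)) (ha1 : a ≠ 1) :
    ∃ K, Central (secT (sylow_le_cent c ha)) (secHom _ ⟨a, sylow_le_cent c ha ha⟩) K := by
  obtain ⟨K, hK⟩ := c.comp a ha ha1
  have hg := good_sec c.hyp c.facts (cent_ne_top c ha1)
  have h8 := secEight (sylow_le_cent c ha) c.card c.sq
  set t := secHom _ (⟨a, sylow_le_cent c ha ha⟩ : centralizer (zpowers a : Set G))
  have hmem := proj_mem_secT (sylow_le_cent c ha) ha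
  have hne : t ≠ 1 := sec_ne_one _ (c.sq a ha) ha1
  have hcen : t ∈ Subgroup.center (Sec (centralizer (zpowers a : Set G))) := by
    refine mem_center_iff.2 fun z => ?_
    obtain ⟨⟨g, hg'⟩, rfl⟩ := secHom_surjective _ z
    rw [← map_mul, ← map_mul]
    exact congrArg _ (Subtype.ext (mem_cent.1 hg'))
  have h4 : Nat.card ((secT (sylow_le_cent c ha) : Subgroup _) ⊓ K : Subgroup _) = 4 := by
    rcases card_inf_cases hg h8 hK with h | h
    · exact h.1
    · exfalso
      refine hne (hg.inf_centralizer hK ?_ (mem_centralizer_iff.2 fun k _ => mem_center_iff.1 hcen k))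
      have he := eq_of_le_of_card_ge
        (inf_le_left : (secT (sylow_le_cent c ha) : Subgroup _) ⊓ K ≤ _) (by rw [h.1, h8.card])
      exact (he ▸ inf_le_right : (secT (sylow_le_cent c ha) : Subgroup _) ≤ K) hmem
  have hodd := oddType hg hK (known_sec c.hyp c.facts (cent_ne_top c ha1) hK) _ h4
  exact ⟨K, hg, h8, hK, hmem, hne, hcen, hodd, c.facts.2 _ hodd⟩

/-- `O(H) ∩ C(a) ≤ core a` under coverage. -/
theorem inf_core_le {H : Subgroup G} {a : G}
    (hcov : ∀ c : G, c * a = a * c → ∃ r ∈ core a, ∃ h ∈ H, h * a = a * h ∧ c = r * h) {d : G}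
    (hd : d ∈ Balance.coreIn 2 H) (hda : d * a = a * d) : d ∈ core a := by
  set C := centralizer (zpowers a : Set G) with hC
  set D := Balance.coreIn 2 H ⊓ centralizer ({a} : Set G) with hD
  have hDC : D ≤ C := fun y hy => mem_cent.2 (mem_centralizer_singleton_iff.1 hy.2)
  set Y := (D.subgroupOf C).map (secHom C) with hY
  have hYn : Y.Normal := ⟨fun y hy z => by
    obtain ⟨⟨e, he⟩, hemem, rfl⟩ := hy
    obtain ⟨⟨g, hg⟩, rfl⟩ := secHom_surjective C z
    obtain ⟨r, hr, h, hh, hha, rfl⟩ := hcov g (mem_cent.1 hg)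
    have hrC : r ∈ C := mem_cent.2 (comm_of_mem_core hr)
    have hr1 : secHom C ⟨r, hrC⟩ = 1 := (secHom_eq_one_iff hrC).2 (by rw [hC, coreIn_cent]; exact hr)
    have he1 : h * e * h⁻¹ ∈ D := by
      have h1 : e ∈ D := mem_subgroupOf.1 hemem
      refine ⟨(mem_normalizer_iff.1 (Balance.le_normalizer_coreIn H hh) e).1 h1.1, ?_⟩
      exact mul_mem (mul_mem (mem_centralizer_singleton_iff.2 hha) h1.2)
        (Subgroup.inv_mem _ (mem_centralizer_singleton_iff.2 hha))
    rw [show (⟨r * h, hg⟩ : C) = ⟨r, hrC⟩ * ⟨h, mem_cent.2 hha⟩ from rfl, map_mul, hr1, one_mul,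
      ← map_inv, ← map_mul, ← map_mul]
    exact mem_map_of_mem _ (mem_subgroupOf.2 he1)⟩
  have hodd : Odd (Nat.card Y) := by
    refine ((odd_coreIn H).of_dvd_nat ?_).of_dvd_nat (card_map_dvd _ _)
    rw [← card_map_of_injective C.subtype_injective, subgroupOf_map_subtype]
    exact card_dvd_of_le (inf_le_left.trans inf_le_left)
  have h1 : secHom C ⟨d, mem_cent.2 hda⟩ ∈ Y :=
    mem_map_of_mem _ (mem_subgroupOf.2 ⟨hd, mem_centralizer_singleton_iff.2 hda⟩)
  haveI := hYn
  have h2 := Cores.le_pPrimeCore (p := 2) (Nat.coprime_two_right.2 hodd) h1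
  rw [Cores.pPrimeCore_quotient_pPrimeCore, mem_bot, secHom_eq_one_iff, hC, coreIn_cent] at h2
  exact h2

/-- The centraliser of `x` in a member of the family is not solvable. -/
theorem Fam.not_solvable (c : Ctx S) {x : G} (hx : x ∈ (S : Subgroup G)) (hx1 : x ≠ 1)
    {X H : Subgroup G} (hF : Fam S x X H) :
    ¬ Group.IsSolvable ↥(centralizer ({secHom H ⟨x, hF.S_le hx⟩} : Set (Sec H))) := by
  intro hsol
  obtain ⟨K, hK⟩ := c.comp x hx hx1
  apply not_solvable_of_component hK
  set C := centralizer (zpowers x : Set G)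
  set N := H ⊓ centralizer ({x} : Set G) with hN
  let φ : N →* ↥(centralizer ({secHom H ⟨x, hF.S_le hx⟩} : Set (Sec H))) :=
    ((secHom H).comp (inclusion inf_le_left)).codRestrict _ fun n => mem_centralizer_singleton_iff.2 (by
      show secHom H _ * secHom H _ = secHom H _ * secHom H _
      rw [← map_mul, ← map_mul]
      exact congrArg _ (Subtype.ext (mem_centralizer_singleton_iff.1 n.2.2)))
  have hker : Group.IsSolvable φ.ker := by
    refine OddOrder.FeitThompson.isSolvable_of_odd_card ((odd_coreIn H).of_dvd_nat ?_)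
    rw [← card_map_of_injective N.subtype_injective]
    refine card_dvd_of_le ?_
    rintro _ ⟨n, hn, rfl⟩
    exact (secHom_eq_one_iff _).1 (congrArg Subtype.val (MonoidHom.mem_ker.1 hn))
  haveI := solvable_of_hom φ hker hsol
  let ψ : N →* Sec C := (secHom C).comp (inclusion (fun g hg => mem_cent.2
    (mem_centralizer_singleton_iff.1 hg.2)))
  refine Group.isSolvable_of_surjective (f := ψ) fun z => ?_
  obtain ⟨⟨g, hg⟩, rfl⟩ := secHom_surjective C z
  obtain ⟨r, hr, h, hh, hha, rfl⟩ := hF.cover g (mem_cent.1 hg)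
  refine ⟨⟨h, hh, mem_centralizer_singleton_iff.2 hha⟩, ?_⟩
  have hrC : r ∈ C := mem_cent.2 (comm_of_mem_core hr)
  rw [show (⟨r * h, hg⟩ : C) = ⟨r, hrC⟩ * ⟨h, mem_cent.2 hha⟩ from rfl, map_mul,
    (secHom_eq_one_iff hrC).2 (by rw [coreIn_cent]; exact hr), one_mul]
  rfl

/-- In a member of the family `x` is central modulo the odd core, and `core x` meets it there. -/
theorem Fam.central (c : Ctx S) {x y : G} (hx : x ∈ (S : Subgroup G)) (hx1 : x ≠ 1)
    (hy : y ∈ (S : Subgroup G)) (hy1 : y ≠ 1) {X H : Subgroup G} (hF : Fam S x X H)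
    (hXy : ∀ a ∈ X, a * y = y * a) {e : G} (he : e ∈ X) (hex : e ∈ core x) (hey : e ∉ core y) :
    (∃ K, Central (secT hF.S_le) (secHom H ⟨x, hF.S_le hx⟩) K) ∧
      ∀ d ∈ H, d ∈ core x → d ∈ Balance.coreIn 2 H := by
  have hg := good_sec c.hyp c.facts hF.ne_top
  have h8 := secEight hF.S_le c.card c.sq
  set t := secHom H ⟨x, hF.S_le hx⟩ with ht
  have htm := proj_mem_secT hF.S_le hx
  have ht1 : t ≠ 1 := sec_ne_one _ (c.sq x hx) hx1
  have hd := dichotomy hg h8 htm ht1 (hF.not_solvable c hx hx1)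
  have hcore : Cfsg.centralizerPPrimeCore 2 t = ⊥ := by
    rcases hd with ⟨hc, -⟩ | ⟨-, h⟩
    · have htop : centralizer ({t} : Set (Sec H)) = ⊤ :=
        eq_top_iff.2 fun z _ => mem_centralizer_singleton_iff.2 (mem_center_iff.1 hc z)
      rw [Balance.centralizerPPrimeCore_eq, htop, Balance.coreIn_top]
      exact hg.core
    · exact h
  have hcap : ∀ d ∈ H, d ∈ core x → d ∈ Balance.coreIn 2 H := by
    intro d hdH hdx
    have hm := mem_core_sec (D := core x ⊓ H) (hF.S_le hx) (c.sq x hx) inf_le_right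
      (fun e he => comm_of_mem_core he.1) ((odd_core x).of_dvd_nat (card_dvd_of_le inf_le_left))
      (fun h hh hha e he => ⟨conj_mem_core hha he.1, mul_mem (mul_mem hh he.2) (Subgroup.inv_mem _ hh)⟩)
      (d := d) ⟨hdx, hdH⟩
    rw [hcore, mem_bot] at hm
    exact (secHom_eq_one_iff _).1 hm
  refine ⟨?_, hcap⟩
  rcases hd with ⟨hc, K, hK⟩ | ⟨hconj, -⟩
  · have h4 : Nat.card ((secT hF.S_le : Subgroup _) ⊓ K : Subgroup _) = 4 := by
      rcases card_inf_cases hg h8 hK with h | h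
      · exact h.1
      · exfalso
        refine ht1 (hg.inf_centralizer hK ?_ (mem_centralizer_iff.2 fun k _ => mem_center_iff.1 hc k))
        have he := eq_of_le_of_card_ge (inf_le_left : (secT hF.S_le : Subgroup _) ⊓ K ≤ _)
          (by rw [h.1, h8.card])
        exact (he ▸ inf_le_right : (secT hF.S_le : Subgroup _) ≤ K) htm
    have hodd := oddType hg hK (known_sec c.hyp c.facts hF.ne_top hK) _ h4
    exact ⟨K, hg, h8, hK, htm, ht1, hc, hodd, c.facts.2 _ hodd⟩
  · exfalso
    obtain ⟨g, hgy⟩ := hconj _ (proj_mem_secT hF.S_le hy) (sec_ne_one _ (c.sq y hy) hy1)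
    obtain ⟨⟨g, hgH⟩, rfl⟩ := secHom_surjective H g
    have hz : (g * x * g⁻¹) * (g * x * g⁻¹) = 1 := by
      calc g * x * g⁻¹ * (g * x * g⁻¹) = g * (x * x) * g⁻¹ := by group
        _ = 1 := by rw [c.sq x hx]; group
    have hr : g * x * g⁻¹ * y ∈ Balance.coreIn 2 H := by
      refine (secHom_eq_one_iff (mul_mem (mul_mem (mul_mem hgH (hF.S_le hx)) (inv_mem hgH))
        (hF.S_le hy))).1 ?_
      show secHom H (⟨g, hgH⟩ * ⟨x, hF.S_le hx⟩ * (⟨g, hgH⟩ : H)⁻¹ * ⟨y, hF.S_le hy⟩) = 1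
      rw [map_mul, map_mul, map_mul, map_inv, hgy, ← map_mul,
        show (⟨y, hF.S_le hy⟩ : H) * ⟨y, hF.S_le hy⟩ = 1 from Subtype.ext (c.sq y hy), map_one]
    obtain ⟨ρ, hρ, hρy⟩ := exists_conj_of_mod (odd_coreIn H) (c.sq y hy) hz hr
    set h' := ρ⁻¹ * g with hh'
    have hh'H : h' ∈ H := mul_mem (inv_mem (Balance.coreIn_le H hρ)) hgH
    have hh'y : h' * x * h'⁻¹ = y := by
      rw [hh', mul_inv_rev, inv_inv]
      calc ρ⁻¹ * g * x * (g⁻¹ * ρ) = ρ⁻¹ * (g * x * g⁻¹) * ρ := by group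
        _ = y := by rw [← hρy]; group
    have hcov : ∀ a : G, a * y = y * a → ∃ r ∈ core y, ∃ h ∈ H, h * y = y * h ∧ a = r * h := by
      intro a ha
      obtain ⟨r, hr', h, hh, hhx, heq⟩ := hF.cover (h'⁻¹ * a * h') (by
        rw [← hh'y] at ha
        calc h'⁻¹ * a * h' * x = h'⁻¹ * (a * (h' * x * h'⁻¹)) * h' := by group
          _ = h'⁻¹ * (h' * x * h'⁻¹ * a) * h' := by rw [ha]
          _ = x * (h'⁻¹ * a * h') := by group)
      refine ⟨h' * r * h'⁻¹, ?_, h' * h * h'⁻¹, mul_mem (mul_mem hh'H hh) (inv_mem hh'H), ?_, ?_⟩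
      · rw [← hh'y, core_conj]
        exact mem_map_of_mem _ hr'
      · rw [← hh'y]
        calc h' * h * h'⁻¹ * (h' * x * h'⁻¹) = h' * (h * x) * h'⁻¹ := by group
          _ = h' * (x * h) * h'⁻¹ := by rw [hhx]
          _ = h' * x * h'⁻¹ * (h' * h * h'⁻¹) := by group
      · calc a = h' * (h'⁻¹ * a * h') * h'⁻¹ := by group
          _ = h' * (r * h) * h'⁻¹ := by rw [heq]
          _ = h' * r * h'⁻¹ * (h' * h * h'⁻¹) := by group
    exact hey (inf_core_le hcov (hcap e (hF.X_le he) hex) (hXy e he))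

end Cfsg.Agent.Lib.Walter.JRBal
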