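import Cfsg.Agent.Lib.Walter.Bar
import Cfsg.Agent.Lib.Walter.JRBalance.Frame

/-!
# Section B: a subgroup containing `S` modulo its odd core

Owner: helper66.
-/

set_option autoImplicit false
set_option linter.style.haveILetI false
set_option linter.unusedSectionVars false

universe u

namespace Cfsg.Agent.Lib.Walter.JRBal

open Subgroup

variable {G : Type u} [Group G] [Finite G] {S : Sylow 2 G}

/-- A subgroup modulo its odd core. -/
abbrev Sec (H : Subgroup G) : Type u := ↥H ⧸ Cfsg.oddCore ↥H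

/-- The projection. -/
abbrev secHom (H : Subgroup G) : ↥H →* Sec H := QuotientGroup.mk' _

theorem secHom_surjective (H : Subgroup G) : Function.Surjective (secHom H) :=
  QuotientGroup.mk'_surjective _

theorem secHom_eq_one_iff {H : Subgroup G} {x : G} (hx : x ∈ H) :
    secHom H ⟨x, hx⟩ = 1 ↔ x ∈ Balance.coreIn 2 H := by
  rw [QuotientGroup.mk'_apply, QuotientGroup.eq_one_iff]
  constructor
  · exact fun h => ⟨⟨x, hx⟩, h, rfl⟩
  · rintro ⟨y, hy, he⟩
    have hy' : y = (⟨x, hx⟩ : ↥H) := Subtype.ext he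
    rwa [hy'] at hy

theorem odd_coreIn (H : Subgroup G) : Odd (Nat.card ↥(Balance.coreIn 2 H)) :=
  Nat.coprime_two_right.1 (Balance.coreIn_coprime H)

theorem eq_one_of_sq_odd {D : Subgroup G} (hD : Odd (Nat.card ↥D)) {s : G} (hs : s ∈ D)
    (h2 : s * s = 1) : s = 1 :=
  orderOf_eq_one_iff.1 (Nat.eq_one_of_dvd_coprimes (Nat.coprime_two_left.2 hD)
    (orderOf_dvd_of_pow_eq_one (by rw [pow_two]; exact h2)) (Subgroup.orderOf_dvd_natCard _ hs))

theorem sec_ne_one {H : Subgroup G} {s : G} (hs : s ∈ H) (h2 : s * s = 1) (h1 : s ≠ 1) :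
    secHom H ⟨s, hs⟩ ≠ 1 :=
  fun h => h1 (eq_one_of_sq_odd (odd_coreIn H) ((secHom_eq_one_iff hs).1 h) h2)

theorem good_sec (hyp : Hyp G) (hL : PropKnownFacts.{u}) {H : Subgroup G} (hH : H ≠ ⊤) :
    Pairs.Good (Sec H) where
  core := Cores.pPrimeCore_quotient_pPrimeCore 2
  abelian := fun P => by
    haveI : Fact (Nat.Prime 2) := ⟨Nat.prime_two⟩
    obtain ⟨T, hT⟩ := Sylow.mapSurjective_surjective (secHom_surjective H) 2 P
    obtain ⟨U, hU⟩ := (T.2.map H.subtype).exists_le_sylow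
    haveI := hyp.abelian U
    refine ⟨⟨fun x y => Subtype.ext ?_⟩⟩
    obtain ⟨x, hx⟩ := x
    obtain ⟨y, hy⟩ := y
    rw [← hT, Sylow.coe_mapSurjective] at hx hy
    obtain ⟨a, ha, rfl⟩ := hx
    obtain ⟨b, hb, rfl⟩ := hy
    show secHom H a * secHom H b = secHom H b * secHom H a
    rw [← map_mul, ← map_mul]
    exact congrArg _ (Subtype.ext
      (setLike_mul_comm (s := (U : Subgroup G)) (hU (mem_map_of_mem _ ha)) (hU (mem_map_of_mem _ hb))))
  known := fun K hK hs => by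
    refine hL.1 K (hyp.proper _ hH _ K hs fun hc => ?_)
    exact Components.Component.not_isMulCommutative hK hc

theorem known_sec (hyp : Hyp G) (hL : PropKnownFacts.{u}) {H : Subgroup G} (hH : H ≠ ⊤)
    {K : Subgroup (Sec H)} (hK : Cfsg.IsComponent K) : IsKnownA ↥K :=
  hyp.proper _ hH _ K ((good_sec hyp hL hH).simple hK)
    (fun hc => Components.Component.not_isMulCommutative hK hc)

/-- The image of `S`. -/
noncomputable def secT {H : Subgroup G} (hSH : (S : Subgroup G) ≤ H) : Sylow 2 (Sec H) :=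
  haveI : Fact (Nat.Prime 2) := ⟨Nat.prime_two⟩
  (S.subtype hSH).mapSurjective (secHom_surjective H)

theorem mem_secT {H : Subgroup G} (hSH : (S : Subgroup G) ≤ H) {z : Sec H} :
    z ∈ (secT hSH : Subgroup (Sec H)) ↔
      ∃ s, ∃ hs : s ∈ (S : Subgroup G), secHom H ⟨s, hSH hs⟩ = z := by
  haveI : Fact (Nat.Prime 2) := ⟨Nat.prime_two⟩
  rw [secT, Sylow.coe_mapSurjective, Subgroup.mem_map]
  constructor
  · rintro ⟨⟨s, hsH⟩, hs, he⟩
    exact ⟨s, hs, he⟩
  · rintro ⟨s, hs, he⟩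
    exact ⟨⟨s, hSH hs⟩, hs, he⟩

theorem proj_mem_secT {H : Subgroup G} (hSH : (S : Subgroup G) ≤ H) {s : G}
    (hs : s ∈ (S : Subgroup G)) : secHom H ⟨s, hSH hs⟩ ∈ (secT hSH : Subgroup (Sec H)) :=
  (mem_secT hSH).2 ⟨s, hs, rfl⟩

theorem sec_inj {H : Subgroup G} (hSH : (S : Subgroup G) ≤ H)
    (hsq : ∀ a ∈ (S : Subgroup G), a * a = 1) {s s' : G} (hs : s ∈ (S : Subgroup G))
    (hs' : s' ∈ (S : Subgroup G)) (h : secHom H ⟨s, hSH hs⟩ = secHom H ⟨s', hSH hs'⟩) : s = s' := by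
  have h1 : secHom H ⟨s * s'⁻¹, hSH (mul_mem hs (inv_mem hs'))⟩ = 1 := by
    rw [show (⟨s * s'⁻¹, hSH (mul_mem hs (inv_mem hs'))⟩ : H) =
      ⟨s, hSH hs⟩ * (⟨s', hSH hs'⟩ : H)⁻¹ from rfl, map_mul, map_inv, h, mul_inv_cancel]
  exact mul_inv_eq_one.1 (eq_one_of_sq_odd (odd_coreIn H) ((secHom_eq_one_iff _).1 h1)
    (hsq _ (mul_mem hs (inv_mem hs'))))

theorem secEight {H : Subgroup G} (hSH : (S : Subgroup G) ≤ H)
    (h8 : Nat.card ↥(S : Subgroup G) = 8) (hsq : ∀ a ∈ (S : Subgroup G), a * a = 1) :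
    Eight (secT hSH) := by
  refine ⟨?_, fun z hz => ?_⟩
  · rw [← h8]
    symm
    refine Nat.card_congr (Equiv.ofBijective
      (fun s : (S : Subgroup G) => (⟨_, proj_mem_secT hSH s.2⟩ : (secT hSH : Subgroup (Sec H)))) ⟨?_, ?_⟩)
    · intro s s' h
      exact Subtype.ext (sec_inj hSH hsq s.2 s'.2 (congrArg Subtype.val h))
    · rintro ⟨z, hz⟩
      obtain ⟨s, hs, rfl⟩ := (mem_secT hSH).1 hz
      exact ⟨⟨s, hs⟩, rfl⟩
  · obtain ⟨s, hs, rfl⟩ := (mem_secT hSH).1 hz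
    rw [← map_mul, show (⟨s, hSH hs⟩ : H) * ⟨s, hSH hs⟩ = 1 from Subtype.ext (hsq s hs), map_one]

/-- Centralisers of involutions lift. -/
theorem exists_lift_comm {H : Subgroup G} {a : G} (ha : a ∈ H) (h2 : a * a = 1) {z : Sec H}
    (hz : z * secHom H ⟨a, ha⟩ = secHom H ⟨a, ha⟩ * z) :
    ∃ h, ∃ hh : h ∈ H, h * a = a * h ∧ secHom H ⟨h, hh⟩ = z := by
  obtain ⟨⟨k, hk⟩, rfl⟩ := secHom_surjective H z
  have hA : ∀ b ∈ zpowers a, b = 1 ∨ b = a := by
    intro b hb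
    obtain ⟨i, rfl⟩ := mem_zpowers_iff.1 hb
    rcases Int.even_or_odd i with ⟨j, rfl⟩ | ⟨j, rfl⟩
    · exact Or.inl (by rw [zpow_add, ← (Commute.refl a).mul_zpow, h2, one_zpow])
    · refine Or.inr ?_
      rw [zpow_add, zpow_one, zpow_mul, show a ^ (2 : ℤ) = 1 by
        rw [show (2 : ℤ) = 1 + 1 from rfl, zpow_add, zpow_one]; exact h2, one_zpow, one_mul]
  have hcop : (Nat.card ↥(zpowers a)).Coprime (Nat.card ↥(Balance.coreIn 2 H)) := by
    rw [Nat.card_zpowers]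
    exact (Nat.coprime_two_left.2 (odd_coreIn H)).coprime_dvd_left
      (orderOf_dvd_of_pow_eq_one (by rw [pow_two]; exact h2))
  obtain ⟨n, hn, hnk⟩ := Coprime.exists_fixed_mul (A := zpowers a) (N := Balance.coreIn 2 H)
    ((zpowers_le.2 ha).trans (Balance.le_normalizer_coreIn H)) hcop
    (Or.inl (Coprime.isSolvable_zpowers a)) (k := k) fun b hb => by
      rcases hA b hb with rfl | rfl
      · simp
      · refine (secHom_eq_one_iff (mul_mem (mul_mem (mul_mem ha hk) (inv_mem ha)) (inv_mem hk))).1 ?_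
        show secHom H (⟨b, ha⟩ * ⟨k, hk⟩ * (⟨b, ha⟩ : H)⁻¹ * (⟨k, hk⟩ : H)⁻¹) = 1
        rw [map_mul, map_mul, map_mul, map_inv, map_inv, ← hz, mul_inv_cancel_right, mul_inv_cancel]
  refine ⟨n * k, mul_mem (Balance.coreIn_le H hn) hk, (mem_centralizer_iff.1 hnk a (mem_zpowers a)).symm, ?_⟩
  rw [show (⟨n * k, mul_mem (Balance.coreIn_le H hn) hk⟩ : H) =
    ⟨n, Balance.coreIn_le H hn⟩ * ⟨k, hk⟩ from rfl, map_mul, (secHom_eq_one_iff _).2 hn, one_mul]

/-- An odd subgroup normalised by `C_H(a)` maps into the core of the centraliser. -/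
theorem mem_core_sec {H D : Subgroup G} {a : G} (ha : a ∈ H) (h2 : a * a = 1) (hDH : D ≤ H)
    (hDa : ∀ d ∈ D, d * a = a * d) (hDo : Odd (Nat.card D))
    (hn : ∀ h ∈ H, h * a = a * h → ∀ d ∈ D, h * d * h⁻¹ ∈ D) {d : G} (hd : d ∈ D) :
    secHom H ⟨d, hDH hd⟩ ∈ Cfsg.centralizerPPrimeCore 2 (secHom H ⟨a, ha⟩) := by
  set Y := (D.subgroupOf H).map (secHom H) with hY
  have h1 : Y ≤ centralizer ({secHom H ⟨a, ha⟩} : Set (Sec H)) := by
    rintro _ ⟨e, he, rfl⟩
    refine mem_centralizer_singleton_iff.2 ?_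
    rw [← map_mul, ← map_mul]
    exact congrArg _ (Subtype.ext (hDa e (mem_subgroupOf.1 he)))
  have hfwd : ∀ z ∈ centralizer ({secHom H ⟨a, ha⟩} : Set (Sec H)), ∀ y ∈ Y, z * y * z⁻¹ ∈ Y := by
    rintro z hz _ ⟨e, he, rfl⟩
    obtain ⟨h, hh, hha, rfl⟩ := exists_lift_comm ha h2 (mem_centralizer_singleton_iff.1 hz)
    rw [← map_inv, ← map_mul, ← map_mul]
    exact mem_map_of_mem _ (mem_subgroupOf.2 (hn h hh hha e (mem_subgroupOf.1 he)))
  have hY2 : centralizer ({secHom H ⟨a, ha⟩} : Set (Sec H)) ≤ normalizer (Y : Set (Sec H)) := by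
    intro z hz
    refine mem_normalizer_iff.2 fun y => ⟨hfwd z hz y, fun hy => ?_⟩
    have := hfwd z⁻¹ (inv_mem hz) _ hy
    simpa [mul_assoc] using this
  refine Balance.le_coreIn h1 hY2 ?_ (mem_map_of_mem _ (mem_subgroupOf.2 hd))
  refine Nat.coprime_two_right.2 ((hDo.of_dvd_nat ?_).of_dvd_nat (card_map_dvd _ _))
  rw [← card_map_of_injective H.subtype_injective, subgroupOf_map_subtype]
  exact card_dvd_of_le inf_le_left

/-- Involutions congruent modulo an odd subgroup are conjugate under it. -/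
theorem exists_conj_of_mod {R : Subgroup G} (hR : Odd (Nat.card R)) {y z : G} (hy : y * y = 1)
    (hz : z * z = 1) (hr : z * y ∈ R) : ∃ ρ ∈ R, ρ * y * ρ⁻¹ = z := by
  set r := z * y with hrdef
  have hyi : y⁻¹ = y := inv_eq_of_mul_eq_one_right hy
  have hzi : z⁻¹ = z := inv_eq_of_mul_eq_one_right hz
  have hinv : y * r * y⁻¹ = r⁻¹ := by
    rw [hrdef, mul_inv_rev, hyi, hzi, mul_assoc, mul_assoc, hy, mul_one]
  obtain ⟨n, hn⟩ : Odd (orderOf r) := hR.of_dvd_nat (Subgroup.orderOf_dvd_natCard _ hr)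
  refine ⟨r ^ (n + 1), pow_mem hr _, ?_⟩
  have h1 : y * (r ^ (n + 1))⁻¹ = r ^ (n + 1) * y := by
    have h := conj_pow (i := n + 1) (a := y) (b := r)
    rw [hinv, inv_pow] at h
    calc y * (r ^ (n + 1))⁻¹ = y * (y * r ^ (n + 1) * y⁻¹) := by rw [h]
      _ = (y * y) * r ^ (n + 1) * y⁻¹ := by group
      _ = r ^ (n + 1) * y := by rw [hy, one_mul, hyi]
  rw [mul_assoc, h1, ← mul_assoc, ← pow_add, show n + 1 + (n + 1) = orderOf r + 1 by omega,
    pow_succ, pow_orderOf_eq_one, one_mul, hrdef, mul_assoc, hy, mul_one]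

/-- Normal 2-complement when the normaliser of `S` centralises it. -/
theorem exists_mul_of_centralizes {C : Subgroup G} (hSC : (S : Subgroup G) ≤ C)
    (hn : ∀ n ∈ C, n ∈ normalizer ((S : Subgroup G) : Set G) → ∀ s ∈ (S : Subgroup G), n * s = s * n)
    {c : G} (hc : c ∈ C) :
    ∃ u ∈ Balance.coreIn 2 C, ∃ s ∈ (S : Subgroup G), c = u * s := by
  haveI : Fact (Nat.Prime 2) := ⟨Nat.prime_two⟩
  set P := S.subtype hSC with hP
  have hPn : normalizer ((P : Subgroup C) : Set C) ≤ centralizer ((P : Subgroup C) : Set C) := by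
    intro n hnn
    have hnS : (n : G) ∈ normalizer ((S : Subgroup G) : Set G) := by
      refine mem_normalizer_iff.2 fun y => ⟨fun hy => ?_, fun hy => ?_⟩
      · have h := (mem_normalizer_iff.1 hnn ⟨y, hSC hy⟩).1 (by rw [hP, Sylow.coe_subtype]; exact mem_subgroupOf.2 hy)
        rw [hP, Sylow.coe_subtype] at h
        exact mem_subgroupOf.1 h
      · have hyC : y ∈ C := by
          have h2 := mul_mem (mul_mem (inv_mem n.2) (hSC hy)) n.2
          simpa [mul_assoc] using h2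
        have h := (mem_normalizer_iff.1 hnn ⟨y, hyC⟩).2 (by rw [hP, Sylow.coe_subtype]; exact mem_subgroupOf.2 hy)
        rw [hP, Sylow.coe_subtype] at h
        exact mem_subgroupOf.1 h
    refine mem_centralizer_iff.2 fun s hs => ?_
    rw [SetLike.mem_coe, hP, Sylow.coe_subtype] at hs
    exact Subtype.ext (hn n n.2 hnS s (mem_subgroupOf.1 hs)).symm
  have hcompl := MonoidHom.ker_transferSylow_isComplement' P hPn
  set N := (MonoidHom.transferSylow P hPn).ker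
  have hNodd : Odd (Nat.card N) := by
    rw [← Nat.not_even_iff_odd, even_iff_two_dvd, ← hcompl.index_eq_card]
    exact P.not_dvd_index
  obtain ⟨⟨u, s⟩, hus⟩ := hcompl.2 (⟨c, hc⟩ : C)
  refine ⟨((u : C) : G), ?_, ((s : C) : G), ?_, (congrArg Subtype.val hus).symm⟩
  · exact mem_map_of_mem _ (Cores.le_pPrimeCore (Nat.coprime_two_right.2 hNodd) u.2)
  · obtain ⟨s, hs⟩ := s
    rw [SetLike.mem_coe, hP, Sylow.coe_subtype] at hs
    exact mem_subgroupOf.1 hs

end Cfsg.Agent.Lib.Walter.JRBal
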