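import Cfsg.Agent.Lib.Walter.JRBalance.Local
import Cfsg.Agent.Lib.Balance.LBalance

/-!
# Section B: a failure of balance gives a torus prime and a first member of the family

Owner: helper66.
-/

set_option autoImplicit false
set_option linter.style.haveILetI false
set_option linter.unusedSectionVars false

universe u

namespace Cfsg.Agent.Lib.Walter.JRBal

open Subgroup

variable {G : Type u} [Group G] [Finite G] {S : Sylow 2 G}

/-- The core of the centraliser of the line through `x` and `y`. -/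
abbrev lineCore (x y : G) : Subgroup G :=
  Balance.coreIn 2 (centralizer ({x} : Set G) ⊓ centralizer ({y} : Set G))

theorem mem_lineCore_comm {x y u : G} (hu : u ∈ lineCore x y) : u * x = x * u ∧ u * y = y * u :=
  ⟨mem_centralizer_singleton_iff.1 (Balance.coreIn_le _ hu).1,
    mem_centralizer_singleton_iff.1 (Balance.coreIn_le _ hu).2⟩

theorem Ctx.coprime_of_odd (c : Ctx S) {D : Subgroup G} (hD : Odd (Nat.card D)) :
    (Nat.card ↥(S : Subgroup G)).Coprime (Nat.card D) := by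
  rw [c.card, show (8 : ℕ) = 2 ^ 3 from rfl]
  exact (Nat.coprime_two_left.2 hD).pow_left 3

theorem Ctx.le_cent (c : Ctx S) {a : G} (ha : a ∈ (S : Subgroup G)) :
    (S : Subgroup G) ≤ centralizer ({a} : Set G) := fun _ hs =>
  mem_centralizer_singleton_iff.2 (c.comm hs ha)

theorem Ctx.solvable (c : Ctx S) : Group.IsSolvable ↥(S : Subgroup G) :=
  haveI : Fact (Nat.Prime 2) := ⟨Nat.prime_two⟩
  Coprime.isSolvable_of_isPGroup S.2

/-- What a failure of balance at `(x, y)` gives. -/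
structure Bad (S : Sylow 2 G) (x y : G) (p : ℕ) (e : G) (X : Subgroup G) : Prop where
  tor : Tor S p y
  le : X ≤ lineCore x y
  card : Nat.card X = p ^ (Nat.card ↥(lineCore x y)).factorization p
  inv : (S : Subgroup G) ≤ normalizer (X : Set G)
  mem : e ∈ X
  mem_core : e ∈ core x
  not_mem : e ∉ core y
  flip : ∃ s ∈ (S : Subgroup G), s * e * s⁻¹ * e ∈ core y

theorem exists_bad (c : Ctx S) {x y : G} (hx : x ∈ (S : Subgroup G)) (hx1 : x ≠ 1)
    (hy : y ∈ (S : Subgroup G)) (hy1 : y ≠ 1) (hyx : x ≠ y)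
    (hbad : ¬ core x ⊓ centralizer ({y} : Set G) ≤ core y) :
    ∃ (p : ℕ) (e : G) (X H : Subgroup G), p.Prime ∧ p ≠ 2 ∧ Bad S x y p e X ∧ Fam S x X H := by
  set Cy := centralizer (zpowers y : Set G) with hCy
  have hSC := sylow_le_cent c hy
  obtain ⟨K, hcen⟩ := c.central_cent hy hy1
  haveI hKn := comp_normal hcen.good hcen.eight hcen.comp
  set D := core x ⊓ centralizer ({y} : Set G) with hD
  have hDC : D ≤ Cy := fun d hd => mem_cent.2 (mem_centralizer_singleton_iff.1 hd.2)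
  have hDo : Odd (Nat.card D) := (odd_core x).of_dvd_nat (card_dvd_of_le inf_le_left)
  have hDn : ∀ g : G, g * x = x * g → g * y = y * g → ∀ d ∈ D, g * d * g⁻¹ ∈ D := fun g hgx hgy d hd =>
    (mem_normalizer_iff.1 (inf_centralizer_le_normalizer x y
      ⟨mem_centralizer_singleton_iff.2 hgx, mem_centralizer_singleton_iff.2 hgy⟩) d).1 hd
  have hSD : (S : Subgroup G) ≤ normalizer (D : Set G) := fun s hs =>
    inf_centralizer_le_normalizer x y ⟨c.le_cent hx hs, c.le_cent hy hs⟩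
  set f : D →* Sec Cy := (secHom Cy).comp (inclusion hDC) with hf
  have hf1 : ∀ d : D, f d = 1 → (d : G) ∈ core y := fun d hd => by
    rw [← coreIn_cent y]; exact (secHom_eq_one_iff _).1 hd
  have hrne : f.range ≠ ⊥ := fun hb => hbad fun d hd => hf1 ⟨d, hd⟩ (by
    have : f ⟨d, hd⟩ ∈ f.range := ⟨_, rfl⟩
    rwa [hb, mem_bot] at this)
  have hro : Odd (Nat.card f.range) := hDo.of_dvd_nat (card_range_dvd f)
  have hxt : secHom Cy ⟨x, hSC hx⟩ ≠ secHom Cy ⟨y, hSC hy⟩ := fun he => hyx (sec_inj hSC c.sq hx hy he)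
  have hnorm : centralizer ({secHom Cy ⟨x, hSC hx⟩} : Set (Sec Cy)) ≤ normalizer (f.range : Set (Sec Cy)) := by
    have hfwd : ∀ z ∈ centralizer ({secHom Cy ⟨x, hSC hx⟩} : Set (Sec Cy)),
        ∀ w ∈ f.range, z * w * z⁻¹ ∈ f.range := by
      rintro z hz _ ⟨d, rfl⟩
      obtain ⟨g, hg, hgx, rfl⟩ := exists_lift_comm (hSC hx) (c.sq x hx) (mem_centralizer_singleton_iff.1 hz)
      refine ⟨⟨g * d * g⁻¹, hDn g hgx (mem_cent.1 hg) d d.2⟩, ?_⟩
      show secHom Cy _ = secHom Cy _ * secHom Cy _ * (secHom Cy _)⁻¹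
      rw [← map_inv, ← map_mul, ← map_mul]
      rfl
    intro z hz
    refine mem_normalizer_iff.2 fun w => ⟨hfwd z hz w, fun hw => ?_⟩
    have := hfwd z⁻¹ (inv_mem hz) _ hw
    simpa [mul_assoc] using this
  have hne := hcen.inf_ne_bot (proj_mem_secT hSC hx) (sec_ne_one _ (c.sq x hx) hx1) hxt hnorm hro hrne
  -- the prime
  obtain ⟨p, hp, hpd⟩ := Nat.exists_prime_and_dvd
    (n := Nat.card ↥(f.range ⊓ K)) (fun h => hne (card_eq_one.1 h))
  haveI : Fact p.Prime := ⟨hp⟩
  have hp2 : p ≠ 2 := by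
    rintro rfl
    exact hro.not_two_dvd_nat (hpd.trans (card_dvd_of_le inf_le_left))
  refine ⟨p, ?_⟩
  obtain ⟨P, hP⟩ := Coprime.exists_invariant_sylow hSD (c.coprime_of_odd hDo) (Or.inl c.solvable) p
  set P₀ := (P : Subgroup D).map D.subtype with hP₀
  have hP₀D : P₀ ≤ D := map_subtype_le _
  set Pb := (P : Subgroup D).map f with hPb
  have hQb : Pb ⊓ K ≠ ⊥ := by
    obtain ⟨R, hR⟩ := Balance.exists_sylow_inf_normal (P.mapSurjective f.rangeRestrict_surjective)
      (K.subgroupOf f.range)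
    have hpN : p ∣ Nat.card ↥(K.subgroupOf f.range) := by
      rw [← card_map_of_injective f.range.subtype_injective, subgroupOf_map_subtype, inf_comm]
      exact hpd
    have hpR := R.dvd_card_of_dvd_card hpN
    intro hb
    have hR1 : (R : Subgroup ↥(K.subgroupOf f.range)) = ⊥ := by
      refine (eq_bot_iff_forall _).2 fun r hr => ?_
      rw [hR, mem_subgroupOf, Sylow.coe_mapSurjective] at hr
      obtain ⟨d, hd, hde⟩ := hr
      have hm : (((r : f.range) : Sec Cy)) ∈ Pb ⊓ K :=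
        ⟨⟨d, hd, congrArg Subtype.val hde⟩, mem_subgroupOf.1 r.2⟩
      rw [hb, mem_bot] at hm
      exact Subtype.ext (Subtype.ext hm)
    rw [hR1, card_bot] at hpR
    exact hp.ne_one (Nat.dvd_one.1 hpR)
  have hTQ : (secT hSC : Subgroup (Sec Cy)) ≤ normalizer ((Pb ⊓ K : Subgroup (Sec Cy)) : Set (Sec Cy)) := by
    have hfwd : ∀ z ∈ (secT hSC : Subgroup (Sec Cy)), ∀ w ∈ Pb ⊓ K, z * w * z⁻¹ ∈ Pb ⊓ K := by
      rintro z hz w ⟨⟨d, hd, rfl⟩, hwK⟩
      obtain ⟨s, hs, rfl⟩ := (mem_secT hSC).1 hz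
      refine ⟨?_, hKn.conj_mem _ hwK _⟩
      obtain ⟨d', hd', hde⟩ := (mem_normalizer_iff.1 (hP hs) _).1 (mem_map_of_mem D.subtype hd)
      refine ⟨d', hd', ?_⟩
      show secHom Cy _ = secHom Cy _ * secHom Cy _ * (secHom Cy _)⁻¹
      rw [← map_inv, ← map_mul, ← map_mul]
      exact congrArg _ (Subtype.ext hde)
    intro z hz
    refine mem_normalizer_iff.2 fun w => ⟨hfwd z hz w, fun hw => ?_⟩
    have := hfwd z⁻¹ (inv_mem hz) _ hw
    simpa [mul_assoc] using this
  obtain ⟨db, hdb, hdo, sb, hsb, hinv⟩ := hcen.exists_inverted hp2 inf_le_right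
    ((P.2.map f).to_le inf_le_left) hQb hTQ
  obtain ⟨d, hdP, rfl⟩ := hdb.1
  obtain ⟨s, hs, rfl⟩ := (mem_secT hSC).1 hsb
  set e : G := (d : G) with he
  have heP : e ∈ P₀ := mem_map_of_mem _ hdP
  have hey : e ∉ core y := fun h => by
    have h1 : f d = 1 := (secHom_eq_one_iff _).2 (by rw [hCy, coreIn_cent]; exact h)
    rw [h1, orderOf_one] at hdo
    exact hp.ne_one hdo.symm
  have hep : e ^ p ∈ core y := by
    have h1 : f (d ^ p) = 1 := by rw [map_pow, ← hdo, pow_orderOf_eq_one]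
    simpa using hf1 _ h1
  have hflip : s * e * s⁻¹ * e ∈ core y := by
    rw [← coreIn_cent y]
    refine (secHom_eq_one_iff (mul_mem (mul_mem (mul_mem (hSC hs) (hDC d.2)) (inv_mem (hSC hs)))
      (hDC d.2))).1 ?_
    show secHom Cy (⟨s, hSC hs⟩ * ⟨e, hDC d.2⟩ * (⟨s, hSC hs⟩ : Cy)⁻¹ * ⟨e, hDC d.2⟩) = 1
    rw [map_mul, map_mul, map_mul, map_inv]
    show _ * f d * _ * f d = 1
    rw [hinv, inv_mul_cancel]
  have htor : Tor S p y := ⟨e, x, s, hx, hx1, hyx, hs, mem_centralizer_singleton_iff.1 d.2.2,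
    comm_of_mem_core d.2.1, hey, hep, hflip⟩
  -- the first member
  have hSO : (S : Subgroup G) ≤ normalizer (core x : Set G) := fun s hs =>
    centralizer_le_normalizer_core x (c.le_cent hx hs)
  obtain ⟨Q, hP₀Q, hSQ⟩ := Coprime.exists_invariant_sylow_ge hSO (c.coprime_of_odd (odd_core x))
    (Or.inl c.solvable) p P₀ (hP₀D.trans inf_le_left) (P.2.map _) hP
  set Qh := (Q : Subgroup (core x)).map (core x).subtype with hQh
  set H := normalizer (Qh : Set G) with hH
  have hP₀ne : Qh ≠ ⊥ := fun hb => hey (by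
    have h := hP₀Q heP
    rw [hb, mem_bot] at h
    rw [h]; exact one_mem _)
  have hHtop : H ≠ ⊤ := by
    intro hn
    haveI := c.hyp.simple
    rcases (normalizer_eq_top_iff.1 hn).eq_bot_or_eq_top with h | h
    · exact hP₀ne h
    · refine cent_ne_top c hx1 (eq_top_iff.2 ?_)
      rw [centralizer_zpowers, ← h]
      exact (map_subtype_le _).trans (core_le x)
  have hcov : ∀ g : G, g * x = x * g → ∃ r ∈ core x, ∃ h ∈ H, h * x = x * h ∧ g = r * h := by
    intro g hg
    have hgn := centralizer_le_normalizer_core x (mem_centralizer_singleton_iff.2 hg)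
    obtain ⟨R, hR⟩ := Coprime.exists_sylow_of_card (K := core x) (p := p)
      (H := Qh.map (MulAut.conj g).toMonoidHom) (by
        rintro _ ⟨a, ha, rfl⟩
        exact (mem_normalizer_iff.1 hgn a).1 (map_subtype_le _ ha))
      (by rw [card_map_of_injective (MulAut.conj g).injective, hQh, Coprime.card_sylow_map])
    obtain ⟨k, hk, hkQ⟩ := Coprime.exists_conj_sylow_map R Q
    rw [hR, Coprime.conj_smul_eq_map, map_map, ← hQh] at hkQ
    refine ⟨k⁻¹, inv_mem hk, k * g, ?_, ?_, by group⟩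
    · refine mem_normalizer_iff_map_conj_eq.2 ?_
      conv_rhs => rw [← hkQ]
      congr 1
      ext a; simp [mul_assoc]
    · rw [mul_assoc, hg, ← mul_assoc, comm_of_mem_core hk, mul_assoc]
  set U := lineCore x y with hU
  have hDU : D ≤ U := Balance.core_centralizer_inf_le x y
  set U₁ := U ⊓ H with hU₁
  have hP₀U : P₀ ≤ U₁ := le_inf (hP₀D.trans hDU) (hP₀Q.trans le_normalizer)
  have hSU : (S : Subgroup G) ≤ normalizer (U : Set G) := fun s hs =>
    Balance.le_normalizer_coreIn _ ⟨c.le_cent hx hs, c.le_cent hy hs⟩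
  have hUo : Odd (Nat.card U) := odd_coreIn _
  have hU₁o : Odd (Nat.card U₁) := hUo.of_dvd_nat (card_dvd_of_le inf_le_left)
  have hSU₁ : (S : Subgroup G) ≤ normalizer (U₁ : Set G) :=
    Coprime.le_normalizer_inf hSU (hSQ.trans le_normalizer)
  obtain ⟨Xs, hP₀X, hSX⟩ := Coprime.exists_invariant_sylow_ge hSU₁ (c.coprime_of_odd hU₁o)
    (Or.inl c.solvable) p P₀ hP₀U (P.2.map _) hP
  set X := (Xs : Subgroup U₁).map U₁.subtype with hX
  -- `U = D U₁`
  have hdec : ∀ u ∈ U, ∃ a ∈ D, ∃ b ∈ U₁, u = a * b := by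
    intro u hu
    obtain ⟨hux, huy⟩ := mem_lineCore_comm hu
    obtain ⟨r, hr, h, hh, hhx, rfl⟩ := hcov u hux
    set N := core x ⊓ H
    have hyN : (zpowers y : Subgroup G) ≤ normalizer (N : Set G) := zpowers_le.2
      (Coprime.le_normalizer_inf (hSO.trans le_rfl) (hSQ.trans le_normalizer) hy)
    obtain ⟨n, hn, hny⟩ := Coprime.exists_fixed_mul (A := zpowers y) (N := N) hyN (by
        rw [Nat.card_zpowers]
        exact (Nat.coprime_two_left.2 ((odd_core x).of_dvd_nat (card_dvd_of_le inf_le_left))).coprime_dvd_left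
          (orderOf_dvd_of_pow_eq_one (by rw [pow_two]; exact c.sq y hy)))
      (Or.inl (Coprime.isSolvable_zpowers y)) (k := h) (fun a ha => by
        obtain ⟨i, rfl⟩ := mem_zpowers_iff.1 ha
        have hyi : y ^ i ∈ (S : Subgroup G) := zpow_mem hy i
        have hcm : y ^ i * (r * h) = r * h * y ^ i :=
          ((show Commute (r * h) y from huy).zpow_right i).symm.eq
        have e : y ^ i * h * (y ^ i)⁻¹ * h⁻¹ = y ^ i * r⁻¹ * (y ^ i)⁻¹ * r := by
          calc y ^ i * h * (y ^ i)⁻¹ * h⁻¹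
              = y ^ i * r⁻¹ * (y ^ i)⁻¹ * (y ^ i * (r * h)) * (y ^ i)⁻¹ * h⁻¹ := by group
            _ = _ := by rw [hcm]; group
        refine mem_inf.2 ⟨?_, mul_mem (mul_mem (mul_mem (zpow_mem (hSQ hy) i) hh)
          (inv_mem (zpow_mem (hSQ hy) i))) (inv_mem hh)⟩
        rw [e]
        exact mul_mem ((mem_normalizer_iff.1 (hSO hyi) _).1 (inv_mem hr)) hr)
    have hnh : (n * h) * y = y * (n * h) := (mem_centralizer_iff.1 hny y (mem_zpowers y)).symm
    have ha : r * n⁻¹ ∈ D := by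
      refine ⟨mul_mem hr (Subgroup.inv_mem _ hn.1), ?_⟩
      rw [show r * n⁻¹ = r * h * (n * h)⁻¹ by group]
      exact mul_mem (mem_centralizer_singleton_iff.2 huy)
        (Subgroup.inv_mem _ (mem_centralizer_singleton_iff.2 hnh))
    refine ⟨r * n⁻¹, ha, n * h, ⟨?_, mul_mem hn.2 hh⟩, by group⟩
    rw [show n * h = (r * n⁻¹)⁻¹ * (r * h) by group]
    exact mul_mem (Subgroup.inv_mem _ (hDU ha)) hu
  have hfac : (Nat.card U).factorization p = (Nat.card U₁).factorization p := by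
    haveI hDn' : (D.subgroupOf U).Normal := normal_subgroupOf_of_le_normalizer fun u hu =>
      inf_centralizer_le_normalizer x y (Balance.coreIn_le _ hu)
    have htop : U₁.subgroupOf U ⊔ D.subgroupOf U = ⊤ := by
      refine eq_top_iff.2 fun u _ => ?_
      obtain ⟨a, ha, b, hb, hab⟩ := hdec u u.2
      have : u = (⟨a, hDU ha⟩ : U) * ⟨b, hb.1⟩ := Subtype.ext hab
      rw [this]
      exact mul_mem (mem_sup_right (mem_subgroupOf.2 ha)) (mem_sup_left (mem_subgroupOf.2 hb))
    have h1 : D.relIndex U = D.relIndex U₁ := by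
      have h := relIndex_sup_right (U₁.subgroupOf U) (D.subgroupOf U)
      rw [htop, relIndex_top_right, relIndex_subgroupOf (show U₁ ≤ U from inf_le_left)] at h
      exact h
    have h2 : Nat.card U = Nat.card D * D.relIndex U₁ := by
      rw [← h1, ← relIndex_bot_left, ← relIndex_bot_left]
      exact (relIndex_mul_relIndex ⊥ D U bot_le hDU).symm
    have h3 : Nat.card U₁ = Nat.card ↥(D ⊓ U₁) * D.relIndex U₁ := by
      rw [← inf_relIndex_right D U₁, ← relIndex_bot_left, ← relIndex_bot_left]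
      exact (relIndex_mul_relIndex ⊥ (D ⊓ U₁) U₁ bot_le inf_le_right).symm
    have hk : D.relIndex U₁ ≠ 0 := fun h0 => Nat.card_pos.ne' (h2.trans (by rw [h0, mul_zero]))
    have h4 : (Nat.card D).factorization p = (Nat.card ↥(D ⊓ U₁)).factorization p := by
      refine le_antisymm ?_ ((Nat.factorization_le_iff_dvd Nat.card_pos.ne' Nat.card_pos.ne').2
        (card_dvd_of_le inf_le_left) p)
      refine (hp.pow_dvd_iff_le_factorization Nat.card_pos.ne').1 ?_
      rw [← Coprime.card_sylow_map P]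
      exact card_dvd_of_le (le_inf hP₀D hP₀U)
    rw [h2, h3, Nat.factorization_mul Nat.card_pos.ne' hk, Nat.factorization_mul Nat.card_pos.ne' hk]
    simp only [Finsupp.add_apply, h4]
  refine ⟨e, X, H, hp, hp2, ⟨htor, (map_subtype_le _).trans inf_le_left, ?_, hSX, hP₀X heP, d.2.1, hey,
    s, hs, hflip⟩, hHtop, hSQ, hcov, (map_subtype_le _).trans inf_le_right⟩
  rw [hfac]
  exact Coprime.card_sylow_map Xs

end Cfsg.Agent.Lib.Walter.JRBal
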