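import Cfsg.Agent.Lib.ZJ.Constrained
import Cfsg.Agent.Lib.ZJ.StableFree
import Cfsg.Agent.Lib.ZJ.StableControl
import Cfsg.Agent.Lib.OddOrder.FeitThompson

/-!
# Section B: the ZJ theorem in the form needed

`zj_sup` : `H = O_{p'}(H) N(ZJ(P))` for `H` without `SL(2,p)` section and `p`-constrained, the
latter from the hypotheses of `centralizer_pCore_le_of`.  Owner: helper66.
-/

set_option autoImplicit false
set_option linter.style.haveILetI false

universe u

namespace Cfsg.Agent.Lib.Walter.JRBal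

open Subgroup

variable {p : ℕ} [hp : Fact p.Prime]

/-- Stability in the normalizer form. -/
theorem stable_of_noSLTwo {G : Type u} [Group G] [Finite G] (hp2 : p ≠ 2)
    (hG : PLocal.NoSLTwo p G) : ZJ.Stable p G := by
  refine ZJ.stable_of_isNormalizerPStable fun P hP g hg hquad => ?_
  set N := normalizer (P : Set G) with hN
  set P' := P.subgroupOf N with hP'
  have hPN : P ≤ N := le_normalizer
  haveI : P'.Normal := normal_subgroupOf_of_le_normalizer le_rfl
  have hq : ⁅⁅P', zpowers (⟨g, hg⟩ : N)⁆, zpowers (⟨g, hg⟩ : N)⁆ = ⊥ := by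
    refine (map_eq_bot_iff_of_injective _ N.subtype_injective).1 ?_
    rw [Subgroup.map_commutator, Subgroup.map_commutator, hP', subgroupOf_map_subtype,
      inf_eq_left.2 hPN, MonoidHom.map_zpowers]
    exact hquad
  have h := ZJ.isPStableOn_of_noSLTwo hp2 (PLocal.noSLTwo_subgroup hG N) P'
    (hP.comap_subtype) ⟨g, hg⟩ hq
  have hCC : centralizer (P' : Set N) = (centralizer (P : Set G)).subgroupOf N := by
    ext x
    rw [mem_subgroupOf, mem_centralizer_iff, mem_centralizer_iff]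
    constructor
    · intro hx a ha
      exact congrArg Subtype.val (hx ⟨a, hPN ha⟩ (mem_subgroupOf.2 ha))
    · intro hx a ha
      exact Subtype.ext (hx a (mem_subgroupOf.1 ha))
  have hmap : ∀ (C C' : Subgroup N) (_ : C = C') (_ : C.Normal) (_ : C'.Normal) (a : N),
      (QuotientGroup.mk a : N ⧸ C) ∈ Cfsg.pCore p (N ⧸ C) →
        (QuotientGroup.mk a : N ⧸ C') ∈ Cfsg.pCore p (N ⧸ C') := by
    rintro C C' rfl h1 h2 a ha
    exact ha
  exact hmap _ _ hCC inferInstance inferInstance _ h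

variable {H : Type u} [Group H] [Finite H]

/-- An element of square one in `N R`, `R` odd, lies in `N`. -/
theorem mem_of_sup {N R : Subgroup H} [N.Normal] (hR : Odd (Nat.card R)) {w : H} (hw : w * w = 1)
    (h : w ∈ N ⊔ R) : w ∈ N := by
  rw [sup_comm] at h
  obtain ⟨r, hr, n, hn, rfl⟩ := Coprime.exists_mul_of_mem_sup
    (by rw [normalizer_eq_top_iff.2 inferInstance]; exact le_top) h
  set q := QuotientGroup.mk' N
  have hqn : q n = 1 := (QuotientGroup.eq_one_iff n).2 hn
  have h1 : q r * q r = 1 := by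
    have := congrArg q hw
    rwa [map_mul, map_mul, hqn, mul_one, map_one] at this
  have h2 : orderOf (q r) = 1 := Nat.eq_one_of_dvd_coprimes (Nat.coprime_two_left.2 hR)
    (orderOf_dvd_of_pow_eq_one (by rw [pow_two]; exact h1))
    ((orderOf_map_dvd q r).trans (Subgroup.orderOf_dvd_natCard _ hr))
  exact mul_mem ((QuotientGroup.eq_one_iff r).1 (orderOf_eq_one_iff.1 h2)) hn

/-- The criterion for `p`-constraint used in section B. -/
theorem centralizer_pCore_le_of {R : Subgroup H} [R.Normal] (hR : Odd (Nat.card R)) {x : H}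
    (hx2 : x * x = 1) (hxc : ∀ g : H, g * x * g⁻¹ * x⁻¹ ∈ R) (W : Set H)
    (hW2 : ∀ w ∈ W, w * w = 1)
    (hdich : ∀ N : Subgroup H, N.Normal → R ≤ N → N ≤ R ⊔ zpowers x ∨ W ⊆ N)
    {D : Subgroup H} (hD : D ≤ R) (hDp : IsPGroup p D) (hWD : ∀ w ∈ W, ∀ d ∈ D, w * d * w⁻¹ ∈ D)
    {w₀ : H} (hw₀ : w₀ ∈ W) {d₀ : H} (hd₀ : d₀ ∈ D) (hne : w₀ * d₀ * w₀⁻¹ ≠ d₀) :
    Cfsg.pPrimeCore p H ≤ R ⊔ zpowers x ∧
      centralizer (Cfsg.pCore p (H ⧸ Cfsg.pPrimeCore p H) : Set (H ⧸ Cfsg.pPrimeCore p H)) ≤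
        Cfsg.pCore p (H ⧸ Cfsg.pPrimeCore p H) := by
  set K := Cfsg.pPrimeCore p H with hK
  have hKp : ¬ p ∣ Nat.card K := Cores.not_dvd_card_pPrimeCore p
  have hKD : ∀ y ∈ K, y ∈ D → y = 1 := fun y hy hyD =>
    mem_bot.1 ((disjoint_iff.1 (Transfer.PResidual.disjoint_of_not_dvd hKp hDp)) ▸ mem_inf.2 ⟨hy, hyD⟩)
  have hbad : ∀ w ∈ W, (∀ r ∈ R, w * r * w⁻¹ * r⁻¹ ∈ K) → ∀ d ∈ D, w * d * w⁻¹ = d :=
    fun w hw h d hd => mul_inv_eq_one.1 (hKD _ (h d (hD hd)) (mul_mem (hWD w hw d hd) (inv_mem hd)))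
  haveI : (K ⊔ R).Normal := inferInstance
  refine ⟨?_, ?_⟩
  · rcases hdich (K ⊔ R) inferInstance le_sup_right with h | h
    · exact le_sup_left.trans h
    · exfalso
      have hwK : w₀ ∈ K := mem_of_sup hR (hW2 _ hw₀) (h hw₀)
      refine hne (hbad w₀ hw₀ (fun r _ => ?_) d₀ hd₀)
      rw [show w₀ * r * w₀⁻¹ * r⁻¹ = w₀ * (r * w₀⁻¹ * r⁻¹) by group]
      exact mul_mem hwK ((inferInstance : K.Normal).conj_mem _ (inv_mem hwK) r)
  set q := QuotientGroup.mk' K with hq
  have hqs : Function.Surjective q := QuotientGroup.mk'_surjective K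
  set O := Cfsg.pCore p (H ⧸ K) with hO
  set C' := centralizer (O : Set (H ⧸ K)) with hC'
  haveI : O.Normal := Cfsg.pCore_normal p _
  haveI : C'.Normal := Subgroup.normal_centralizer
  haveI hR'n : (R.map q).Normal := Subgroup.Normal.map inferInstance q hqs
  set R' := R.map q with hR'
  have hR'odd : Odd (Nat.card R') := hR.of_dvd_nat (card_map_dvd _ _)
  haveI : Group.IsSolvable ↥R' := OddOrder.FeitThompson.isSolvable_of_odd_card hR'odd
  haveI : (Cfsg.pPrimeCore p ↥R').Characteristic := Cores.pPrimeCore_characteristic p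
  haveI : (Cfsg.pCore p ↥R').Characteristic := Cores.pCore_characteristic p
  have hR'core : Cfsg.pPrimeCore p ↥R' = ⊥ := by
    haveI := Cores.normal_map_subtype R' (Cfsg.pPrimeCore p ↥R')
    have h1 : (Cfsg.pPrimeCore p ↥R').map R'.subtype ≤ Cfsg.pPrimeCore p (H ⧸ K) :=
      Cores.le_pPrimeCore ((Cores.pPrimeCore_coprime p).coprime_dvd_left (card_map_dvd _ _))
    rw [Cores.pPrimeCore_quotient_pPrimeCore, le_bot_iff,
      map_eq_bot_iff_of_injective _ R'.subtype_injective] at h1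
    exact h1
  have hOR : (Cfsg.pCore p ↥R').map R'.subtype ≤ O := by
    haveI := Cores.normal_map_subtype R' (Cfsg.pCore p ↥R')
    exact Cores.le_pCore ((Cores.pCore_isPGroup p).map _)
  have hCR : C' ⊓ R' ≤ O := by
    rintro y ⟨hyC, hyR⟩
    have hy : (⟨y, hyR⟩ : R') ∈ Cfsg.pCore p ↥R' := by
      refine PSolvable.centralizer_pCore_le PSolvable.isPSolvable_of_isSolvable hR'core ?_
      exact mem_centralizer_iff.2 fun a ha =>
        Subtype.ext (mem_centralizer_iff.1 hyC a (hOR (mem_map_of_mem _ ha)))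
    exact hOR (mem_map_of_mem _ hy)
  -- involutions of `C'` centralise `R` modulo `K`
  have hcent : ∀ w : H, w * w = 1 → q w ∈ C' → ∀ r ∈ R, q w * q r = q r * q w := by
    intro w hw hwC r hr
    set z := q w * q r * (q w)⁻¹ * (q r)⁻¹ with hz
    have hzR : z ∈ R' := mul_mem (hR'n.conj_mem _ (mem_map_of_mem q hr) _)
      (inv_mem (mem_map_of_mem q hr))
    have hzC : z ∈ C' := by
      rw [hz, show q w * q r * (q w)⁻¹ * (q r)⁻¹ = q w * (q r * (q w)⁻¹ * (q r)⁻¹) by group]
      exact mul_mem hwC ((inferInstance : C'.Normal).conj_mem _ (inv_mem hwC) _)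
    have hzw : z * q w = q w * z := mem_centralizer_iff.1 hwC z (hCR ⟨hzC, hzR⟩)
    have hw' : q w * q w = 1 := by rw [← map_mul, hw, map_one]
    have h1 : z * z = 1 := by
      have hwi : (q w)⁻¹ = q w := inv_eq_of_mul_eq_one_right hw'
      have h2 : q w * q r * (q w)⁻¹ = z * q r := by rw [hz]; group
      have h3 : q r = z * (z * q r) := by
        calc q r = q w * (q w * q r * (q w)⁻¹) * (q w)⁻¹ := by
              rw [hwi]
              calc q r = (q w * q w) * q r * (q w * q w) := by rw [hw', one_mul, mul_one]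
                _ = _ := by group
          _ = q w * (z * q r) * (q w)⁻¹ := by rw [h2]
          _ = z * (q w * q r * (q w)⁻¹) := by rw [← mul_assoc, ← hzw]; group
          _ = z * (z * q r) := by rw [h2]
      rw [← mul_assoc] at h3
      exact (mul_eq_right.1 h3.symm)
    have h2 : z = 1 := orderOf_eq_one_iff.1 (Nat.eq_one_of_dvd_coprimes
      (Nat.coprime_two_left.2 hR'odd) (orderOf_dvd_of_pow_eq_one (by rw [pow_two]; exact h1))
      (Subgroup.orderOf_dvd_natCard _ hzR))
    exact mul_inv_eq_iff_eq_mul.1 (mul_inv_eq_one.1 h2)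
  set C₀ := C'.comap q with hC₀
  haveI : C₀.Normal := Subgroup.Normal.comap inferInstance q
  haveI : (C₀ ⊔ R).Normal := inferInstance
  rcases hdich (C₀ ⊔ R) inferInstance le_sup_right with h | h
  swap
  · exfalso
    refine hne (hbad w₀ hw₀ (fun r hr => ?_) d₀ hd₀)
    have hwC : q w₀ ∈ C' := mem_of_sup (N := C₀) hR (hW2 _ hw₀) (h hw₀)
    rw [← QuotientGroup.eq_one_iff]
    show q (w₀ * r * w₀⁻¹ * r⁻¹) = 1
    rw [map_mul, map_mul, map_mul, map_inv, map_inv, hcent w₀ (hW2 _ hw₀) hwC r hr,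
      mul_inv_cancel_right, mul_inv_cancel]
  intro y hy
  obtain ⟨c, rfl⟩ := hqs y
  have hxn : zpowers x ≤ normalizer (R : Set H) := by
    rw [normalizer_eq_top_iff.2 inferInstance]; exact le_top
  have hc := h (mem_sup_left (show c ∈ C₀ from hy))
  rw [sup_comm] at hc
  obtain ⟨a, ha, r, hr, rfl⟩ := Coprime.exists_mul_of_mem_sup hxn hc
  have hax : a = 1 ∨ a = x := by
    obtain ⟨i, rfl⟩ := mem_zpowers_iff.1 ha
    rcases Int.even_or_odd i with ⟨j, rfl⟩ | ⟨j, rfl⟩
    · exact Or.inl (by rw [zpow_add, ← (Commute.refl x).mul_zpow, hx2, one_zpow])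
    · refine Or.inr ?_
      rw [zpow_add, zpow_one, zpow_mul, show x ^ (2 : ℤ) = 1 by
        rw [show (2 : ℤ) = 1 + 1 from rfl, zpow_add, zpow_one]; exact hx2, one_zpow, one_mul]
  rcases hax with rfl | rfl
  · rw [one_mul] at hy ⊢
    exact hCR ⟨hy, mem_map_of_mem q hr⟩
  · -- `x` lies in `C'`, so `q x` is central
    have hxC : a ∈ C₀ := by
      refine mem_of_sup hR hx2 ?_
      have h5 : a * r ∈ C₀ := hy
      have := mul_mem (mem_sup_left h5 : a * r ∈ C₀ ⊔ R) (mem_sup_right (inv_mem hr))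
      rwa [mul_inv_cancel_right] at this
    have hg : ∀ g : H, q (g * a * g⁻¹ * a⁻¹) ∈ C' ⊓ R' := fun g => by
      refine ⟨?_, mem_map_of_mem q (hxc g)⟩
      show g * a * g⁻¹ * a⁻¹ ∈ C₀
      exact mul_mem ((inferInstance : C₀.Normal).conj_mem _ hxC g) (inv_mem hxC)
    have hfix := hcent a hx2 hxC
    have hcen : ∀ g : H, q g * q a = q a * q g := by
      intro g
      set z := q (g * a * g⁻¹ * a⁻¹) with hz
      have hzR : z ∈ R' := (hg g).2
      obtain ⟨r', hr', hr'e⟩ := hzR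
      have hzx : q a * z = z * q a := by rw [← hr'e]; exact hfix r' hr'
      have hgx : q g * q a * (q g)⁻¹ = z * q a := by
        rw [hz, map_mul, map_mul, map_mul, map_inv, map_inv]; group
      have h1 : z * z = 1 := by
        have hxx : q a * q a = 1 := by rw [← map_mul, hx2, map_one]
        have h2 : (q g * q a * (q g)⁻¹) * (q g * q a * (q g)⁻¹) = 1 := by
          calc q g * q a * (q g)⁻¹ * (q g * q a * (q g)⁻¹) = q g * (q a * q a) * (q g)⁻¹ := by group
            _ = 1 := by rw [hxx, mul_one, mul_inv_cancel]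
        rw [hgx] at h2
        calc z * z = z * z * (q a * q a) := by rw [hxx, mul_one]
          _ = z * (z * q a) * q a := by group
          _ = z * (q a * z) * q a := by rw [hzx]
          _ = z * q a * (z * q a) := by group
          _ = 1 := h2
      have h2 : z = 1 := orderOf_eq_one_iff.1 (Nat.eq_one_of_dvd_coprimes
        (Nat.coprime_two_left.2 hR'odd) (orderOf_dvd_of_pow_eq_one (by rw [pow_two]; exact h1))
        (Subgroup.orderOf_dvd_natCard _ (hg g).2))
      rw [h2, one_mul, mul_inv_eq_iff_eq_mul] at hgx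
      exact hgx
    have hZ : (zpowers (q a)).Normal := ⟨fun m hm g => by
      obtain ⟨g, rfl⟩ := hqs g
      obtain ⟨i, rfl⟩ := mem_zpowers_iff.1 hm
      rw [((show Commute (q g) (q a) from hcen g).zpow_right i).eq, mul_inv_cancel_right]
      exact zpow_mem (mem_zpowers _) i⟩
    have hle : zpowers (q a) ≤ Cfsg.pPrimeCore p (H ⧸ K) := by
      haveI := hZ
      refine Cores.le_pPrimeCore_of_not_dvd fun hd => ?_
      rw [Nat.card_zpowers] at hd
      have h2 : p ∣ 2 := hd.trans ((orderOf_map_dvd q a).trans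
        (orderOf_dvd_of_pow_eq_one (by rw [pow_two]; exact hx2)))
      have hp2 : p = 2 := ((Nat.prime_dvd_prime_iff_eq hp.out Nat.prime_two).1 h2)
      have hDo : Odd (Nat.card D) := hR.of_dvd_nat (card_dvd_of_le hD)
      obtain ⟨j, hj⟩ := IsPGroup.iff_card.1 hDp
      rw [hj, hp2] at hDo
      rcases j with _ | j
      · have hb : D = ⊥ := card_eq_one.1 (by rw [hj, pow_zero])
        rw [hb, mem_bot] at hd₀
        exact hne (by rw [hd₀, mul_one, mul_inv_cancel])
      · exact absurd hDo (by simp [Nat.odd_pow_iff, parity_simps])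
    rw [Cores.pPrimeCore_quotient_pPrimeCore] at hle
    have hqa : q a = 1 := mem_bot.1 (hle (mem_zpowers _))
    rw [map_mul, hqa, one_mul] at hy ⊢
    exact hCR ⟨hy, mem_map_of_mem q hr⟩

/-- Glauberman's factorisation. -/
theorem zj_sup (hp2 : p ≠ 2) (hH : PLocal.NoSLTwo p H)
    (hc : centralizer (Cfsg.pCore p (H ⧸ Cfsg.pPrimeCore p H) : Set (H ⧸ Cfsg.pPrimeCore p H)) ≤
      Cfsg.pCore p (H ⧸ Cfsg.pPrimeCore p H)) (P : Sylow p H) :
    Cfsg.pPrimeCore p H ⊔ normalizer (Cfsg.centerThompsonAOf (P : Subgroup H) : Set H) = ⊤ := by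
  set M := Cfsg.pPrimeCore p H with hMdef
  set f := QuotientGroup.mk' M
  have hfs : Function.Surjective f := QuotientGroup.mk'_surjective M
  have hM : ¬ p ∣ Nat.card M := Cores.not_dvd_card_pPrimeCore p
  have hinj : (P : Subgroup H) ⊓ f.ker = ⊥ := by
    rw [QuotientGroup.ker_mk', eq_bot_iff]
    intro x hx
    exact Subgroup.mem_bot.mpr
      (Subgroup.disjoint_def.mp (Transfer.PResidual.disjoint_of_not_dvd hM P.2) hx.2 hx.1)
  have hn := ZJ.centerThompsonAOf_normal hp2 hc
    (ZJ.stable_of_noSLTwo hp2 (PLocal.noSLTwo_of_surjective hH f hfs)) (P.mapSurjective hfs)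
  rw [Sylow.coe_mapSurjective, ← ZJ.inducedFunctor_zjA,
    ConjFunctor.Section.map_inducedFunctor (ZJ.isCharPFunctor_zjA (p := p)) f _ P.2 hinj,
    ZJ.inducedFunctor_zjA] at hn
  have h1 := Balance.map_normalizer_eq hfs (by rwa [QuotientGroup.ker_mk'])
    (P.2.to_le (ZJ.centerThompsonAOf_le (P : Subgroup H)))
  rw [Subgroup.normalizer_eq_top_iff.2 hn] at h1
  rw [sup_comm, eq_top_iff]
  intro x _
  have hx : f x ∈ (normalizer (Cfsg.centerThompsonAOf (P : Subgroup H) : Set H)).map f := by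
    rw [h1]; exact mem_top _
  rw [← Subgroup.mem_comap, Subgroup.comap_map_eq, QuotientGroup.ker_mk'] at hx
  exact hx

end Cfsg.Agent.Lib.Walter.JRBal
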