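import Cfsg.Agent.Lib.Walter.JRBalance.Start
import Cfsg.Agent.Lib.Walter.JRBalance.ZJ
import Cfsg.Agent.Lib.BenderOne.LocalTools

/-!
# Section B: from a member `H` of the family to `N(ZJ(P))`, `P` Sylow in `H`

Owner: helper66.
-/

set_option autoImplicit false
set_option linter.style.haveILetI false
set_option linter.unusedSectionVars false

universe u

namespace Cfsg.Agent.Lib.Walter.JRBal

open Subgroup

variable {G : Type u} [Group G] [Finite G] {S : Sylow 2 G}

/-- The elements of a line normalising `S` centralise it. -/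
theorem line_centralizes (c : Ctx S) {x y : G} (hx : x ∈ (S : Subgroup G)) (hx1 : x ≠ 1)
    (hy : y ∈ (S : Subgroup G)) (hy1 : y ≠ 1) (hyx : x ≠ y) {n : G}
    (hn : n ∈ normalizer ((S : Subgroup G) : Set G)) (hnx : n * x = x * n) (hny : n * y = y * n) :
    ∀ s ∈ (S : Subgroup G), n * s = s * n := by
  haveI : Fact (Nat.Prime 2) := ⟨Nat.prime_two⟩
  have hord : ∀ {a : G}, a ∈ (S : Subgroup G) → a ≠ 1 → orderOf a = 2 := fun ha h1 =>
    orderOf_eq_prime (by rw [pow_two]; exact c.sq _ ha) h1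
  set L := zpowers x ⊔ zpowers y with hL
  have hLS : L ≤ (S : Subgroup G) := sup_le (zpowers_le.2 hx) (zpowers_le.2 hy)
  have hmem2 : ∀ {a b : G}, a ∈ (S : Subgroup G) → b ∈ zpowers a → b = 1 ∨ b = a := by
    intro a b ha hb
    obtain ⟨i, rfl⟩ := mem_zpowers_iff.1 hb
    rcases Int.even_or_odd i with ⟨j, rfl⟩ | ⟨j, rfl⟩
    · exact Or.inl (by rw [zpow_add, ← (Commute.refl a).mul_zpow, c.sq a ha, one_zpow])
    · refine Or.inr ?_
      rw [zpow_add, zpow_one, zpow_mul, show a ^ (2 : ℤ) = 1 by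
        rw [show (2 : ℤ) = 1 + 1 from rfl, zpow_add, zpow_one]; exact c.sq a ha, one_zpow, one_mul]
  have hd : Disjoint (zpowers x) (zpowers y) := disjoint_iff.2 ((eq_bot_iff_forall _).2 fun a ha => by
    rcases hmem2 hx ha.1 with h | h
    · exact h
    · rcases hmem2 hy ha.2 with h' | h'
      · exact h'
      · exact absurd (h.symm.trans h') hyx)
  have hL4 : Nat.card L = 4 := by
    rw [Coprime.card_sup_of_disjoint (zpowers_le.2 (mem_normalizer_iff.2 fun b => ?_)) hd,
      Nat.card_zpowers, Nat.card_zpowers, hord hx hx1, hord hy hy1]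
    have hfix : ∀ b ∈ zpowers y, x * b * x⁻¹ = b := fun b hb => by
      rw [c.comm hx (zpowers_le.2 hy hb), mul_inv_cancel_right]
    refine ⟨fun hb => by rw [hfix b hb]; exact hb, fun hb => ?_⟩
    have h := hfix _ hb
    have h' : x * b * x⁻¹ = b := by
      have := congrArg (fun w => x⁻¹ * w * x) h
      simpa [mul_assoc] using this
    exact h' ▸ hb
  have hidx : (L.subgroupOf (S : Subgroup G)).index = 2 := by
    have h := (L.subgroupOf (S : Subgroup G)).card_mul_index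
    rw [Nat.card_congr (subgroupOfEquivOfLe hLS).toEquiv, hL4, c.card] at h
    omega
  have hLc : ∀ l ∈ L, n * l = l * n := fun l hl => by
    have : L ≤ centralizer ({n} : Set G) := sup_le
      (zpowers_le.2 (mem_centralizer_singleton_iff.2 hnx.symm))
      (zpowers_le.2 (mem_centralizer_singleton_iff.2 hny.symm))
    exact (mem_centralizer_singleton_iff.1 (this hl)).symm
  have hsq : ∀ s ∈ (S : Subgroup G), n * (n * s * n⁻¹) * n⁻¹ = s := by
    intro s hs
    have hs' := conj_mem_sylow hn hs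
    by_cases hsL : s ∈ L
    · rw [hLc s hsL, mul_inv_cancel_right, hLc s hsL, mul_inv_cancel_right]
    · have hs'L : n * s * n⁻¹ ∉ L := fun h => hsL (by
        have h1 := hLc _ h
        have : n * s * n⁻¹ = s := by
          have h2 := congrArg (fun w => n⁻¹ * w) h1
          simp only [inv_mul_cancel_left] at h2
          rw [h2]; group
        exact this ▸ h)
      have hl : n * s * n⁻¹ * s ∈ L := by
        have h := (Subgroup.mul_mem_iff_of_index_two hidx (a := (⟨_, hs'⟩ : (S : Subgroup G))) (b := ⟨s, hs⟩)).2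
        simp only [mem_subgroupOf, Subgroup.coe_mul] at h
        exact h (iff_of_false hs'L hsL)
      set l := n * s * n⁻¹ * s with hldef
      have hls : n * s * n⁻¹ = l * s := by rw [hldef, mul_assoc _ s s, c.sq s hs, mul_one]
      calc n * (n * s * n⁻¹) * n⁻¹ = n * (l * s) * n⁻¹ := by rw [hls]
        _ = l * (n * s * n⁻¹) := by rw [← mul_assoc, hLc l hl]; group
        _ = l * (l * s) := by rw [hls]
        _ = s := by rw [← mul_assoc, c.sq l (hLS hl), one_mul]
  set ψ := (S : Subgroup G).normalizerMonoidHom with hψ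
  have hodd : Odd (Nat.card ψ.range) := by
    have hker : (S : Subgroup G).subgroupOf (normalizer ((S : Subgroup G) : Set G)) ≤ ψ.ker := by
      intro a ha
      refine MonoidHom.mem_ker.2 (MulEquiv.ext fun z => Subtype.ext ?_)
      show (a : G) * z * (a : G)⁻¹ = z
      rw [c.comm (mem_subgroupOf.1 ha) z.2, mul_inv_cancel_right]
    have h1 : Nat.card ψ.range ∣ (S : Subgroup G).index := by
      rw [← Subgroup.index_ker]
      exact (index_dvd_of_le hker).trans (relIndex_dvd_index_of_le le_normalizer)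
    refine Odd.of_dvd_nat ?_ h1
    rw [← Nat.not_even_iff_odd, even_iff_two_dvd]
    exact S.not_dvd_index
  have h2 : ψ ⟨n, hn⟩ * ψ ⟨n, hn⟩ = 1 := MulEquiv.ext fun z => Subtype.ext (hsq z z.2)
  have h1 : ψ ⟨n, hn⟩ = 1 := orderOf_eq_one_iff.1 (Nat.eq_one_of_dvd_coprimes
    (Nat.coprime_two_left.2 hodd) (orderOf_dvd_of_pow_eq_one (by rw [pow_two]; exact h2))
    (Subgroup.orderOf_dvd_natCard _ ⟨_, rfl⟩))
  intro s hs
  have h := congrArg Subtype.val (DFunLike.congr_fun h1 (⟨s, hs⟩ : (S : Subgroup G)))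
  exact mul_inv_eq_iff_eq_mul.1 h

variable {x y : G} {H : Subgroup G}

/-- Lifting to the centraliser of the line. -/
theorem exists_lift_line (hxH : x ∈ H) (hyH : y ∈ H) (hx2 : x * x = 1) (hy2 : y * y = 1)
    (hxy : x * y = y * x) (hxc : secHom H ⟨x, hxH⟩ ∈ Subgroup.center (Sec H)) {z : Sec H}
    (hz : z * secHom H ⟨y, hyH⟩ = secHom H ⟨y, hyH⟩ * z) :
    ∃ h, ∃ hh : h ∈ H, h * x = x * h ∧ h * y = y * h ∧ secHom H ⟨h, hh⟩ = z := by
  obtain ⟨h, hh, hhy, rfl⟩ := exists_lift_comm hyH hy2 hz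
  set N := Balance.coreIn 2 H ⊓ centralizer ({y} : Set G) with hN
  have hxN : zpowers x ≤ normalizer (N : Set G) := Coprime.le_normalizer_inf
    ((zpowers_le.2 hxH).trans (Balance.le_normalizer_coreIn H))
    ((zpowers_le.2 (mem_centralizer_singleton_iff.2 hxy)).trans le_normalizer)
  obtain ⟨n, hn, hnh⟩ := Coprime.exists_fixed_mul (A := zpowers x) (N := N) hxN (by
      rw [Nat.card_zpowers]
      exact (Nat.coprime_two_left.2 ((odd_coreIn H).of_dvd_nat (card_dvd_of_le inf_le_left))).coprime_dvd_left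
        (orderOf_dvd_of_pow_eq_one (by rw [pow_two]; exact hx2)))
    (Or.inl (Coprime.isSolvable_zpowers x)) (k := h) (fun a ha => by
      have haH : a ∈ H := zpowers_le.2 hxH ha
      have hay : a * y = y * a := by
        obtain ⟨i, rfl⟩ := mem_zpowers_iff.1 ha
        exact ((show Commute x y from hxy).zpow_left i).eq
      refine mem_inf.2 ⟨(secHom_eq_one_iff (mul_mem (mul_mem (mul_mem haH hh) (inv_mem haH)) (inv_mem hh))).1 ?_, ?_⟩
      · have hac : secHom H ⟨a, haH⟩ ∈ Subgroup.center (Sec H) := by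
          obtain ⟨i, rfl⟩ := mem_zpowers_iff.1 ha
          rw [show (⟨x ^ i, haH⟩ : H) = ⟨x, hxH⟩ ^ i from rfl, map_zpow]
          exact zpow_mem hxc i
        show secHom H (⟨a, haH⟩ * ⟨h, hh⟩ * (⟨a, haH⟩ : H)⁻¹ * (⟨h, hh⟩ : H)⁻¹) = 1
        rw [map_mul, map_mul, map_mul, map_inv, map_inv, ← mem_center_iff.1 hac, mul_inv_cancel_right,
          mul_inv_cancel]
      · exact mul_mem (mul_mem (mul_mem (mem_centralizer_singleton_iff.2 hay)
          (mem_centralizer_singleton_iff.2 hhy))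
          (Subgroup.inv_mem _ (mem_centralizer_singleton_iff.2 hay)))
          (Subgroup.inv_mem _ (mem_centralizer_singleton_iff.2 hhy)))
  refine ⟨n * h, mul_mem (Balance.coreIn_le H hn.1) hh,
    (mem_centralizer_iff.1 hnh x (mem_zpowers x)).symm, ?_, ?_⟩
  · exact ((show Commute n y from mem_centralizer_singleton_iff.1 hn.2).mul_left hhy).eq
  · rw [show (⟨n * h, mul_mem (Balance.coreIn_le H hn.1) hh⟩ : H) =
      ⟨n, Balance.coreIn_le H hn.1⟩ * ⟨h, hh⟩ from rfl, map_mul,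
      (secHom_eq_one_iff _).2 hn.1, one_mul]

/-- Odd subgroups normal in the centraliser of the line map into the core of `C(y)`. -/
theorem mem_line_sec (hxH : x ∈ H) (hyH : y ∈ H) (hx2 : x * x = 1) (hy2 : y * y = 1)
    (hxy : x * y = y * x) (hxc : secHom H ⟨x, hxH⟩ ∈ Subgroup.center (Sec H)) {D : Subgroup G}
    (hDH : D ≤ H) (hDy : ∀ d ∈ D, d * y = y * d) (hDo : Odd (Nat.card D))
    (hn : ∀ h ∈ H, h * x = x * h → h * y = y * h → ∀ d ∈ D, h * d * h⁻¹ ∈ D) {d : G} (hd : d ∈ D) :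
    secHom H ⟨d, hDH hd⟩ ∈ Cfsg.centralizerPPrimeCore 2 (secHom H ⟨y, hyH⟩) := by
  set Y := (D.subgroupOf H).map (secHom H) with hY
  have h1 : Y ≤ centralizer ({secHom H ⟨y, hyH⟩} : Set (Sec H)) := by
    rintro _ ⟨e, he, rfl⟩
    refine mem_centralizer_singleton_iff.2 ?_
    rw [← map_mul, ← map_mul]
    exact congrArg _ (Subtype.ext (hDy e (mem_subgroupOf.1 he)))
  have hfwd : ∀ z ∈ centralizer ({secHom H ⟨y, hyH⟩} : Set (Sec H)), ∀ w ∈ Y, z * w * z⁻¹ ∈ Y := by
    rintro z hz _ ⟨e, he, rfl⟩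
    obtain ⟨h, hh, hhx, hhy, rfl⟩ := exists_lift_line hxH hyH hx2 hy2 hxy hxc
      (mem_centralizer_singleton_iff.1 hz)
    rw [← map_inv, ← map_mul, ← map_mul]
    exact mem_map_of_mem _ (mem_subgroupOf.2 (hn h hh hhx hhy e (mem_subgroupOf.1 he)))
  have hY2 : centralizer ({secHom H ⟨y, hyH⟩} : Set (Sec H)) ≤ normalizer (Y : Set (Sec H)) := by
    intro z hz
    refine mem_normalizer_iff.2 fun w => ⟨hfwd z hz w, fun hw => ?_⟩
    have := hfwd z⁻¹ (inv_mem hz) _ hw
    simpa [mul_assoc] using this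
  refine Balance.le_coreIn h1 hY2 ?_ (mem_map_of_mem _ (mem_subgroupOf.2 hd))
  refine Nat.coprime_two_right.2 ((hDo.of_dvd_nat ?_).of_dvd_nat (card_map_dvd _ _))
  rw [← card_map_of_injective H.subtype_injective, subgroupOf_map_subtype]
  exact card_dvd_of_le inf_le_left

variable {p : ℕ} [hp : Fact p.Prime] {e : G} {X : Subgroup G}

/-- An invariant Sylow `p`-subgroup of a member, containing `X`. -/
theorem exists_sylow_member (c : Ctx S) (hp2 : p ≠ 2) (hx : x ∈ (S : Subgroup G)) (hx1 : x ≠ 1)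
    (hy : y ∈ (S : Subgroup G)) (hy1 : y ≠ 1) (hyx : x ≠ y) (hB : Bad S x y p e X)
    (htor : Tor S p x) (hF : Fam S x X H) {K : Subgroup (Sec H)}
    (hcen : Central (secT hF.S_le) (secHom H ⟨x, hF.S_le hx⟩) K)
    (hcap : ∀ d ∈ H, d ∈ core x → d ∈ Balance.coreIn 2 H) :
    ∃ P : Subgroup G, P ≤ H ∧ Nat.card P = p ^ (Nat.card H).factorization p ∧ X ≤ P ∧
      (S : Subgroup G) ≤ normalizer (P : Set G) := by
  haveI : Fact (Nat.Prime 2) := ⟨Nat.prime_two⟩
  have hxH := hF.S_le hx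
  have hyH := hF.S_le hy
  set q := secHom H with hq
  obtain ⟨e', b, s, hb, hb1, hbx, hs, hex, heb, hnot, hpow, hflip⟩ := htor
  obtain ⟨r, hr, h, hh, hhx, rfl⟩ := hF.cover e' hex
  -- adjust `h` to commute with `b`
  set N := core x ⊓ H with hN
  have hbN : zpowers b ≤ normalizer (N : Set G) := zpowers_le.2 (Coprime.le_normalizer_inf
    (fun g hg => centralizer_le_normalizer_core x (c.le_cent hx hg) : (S : Subgroup G) ≤ _)
    (hF.S_le.trans le_normalizer) hb)
  obtain ⟨n, hn, hnb⟩ := Coprime.exists_fixed_mul (A := zpowers b) (N := N) hbN (by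
      rw [Nat.card_zpowers]
      exact (Nat.coprime_two_left.2 ((odd_core x).of_dvd_nat (card_dvd_of_le inf_le_left))).coprime_dvd_left
        (orderOf_dvd_of_pow_eq_one (by rw [pow_two]; exact c.sq b hb)))
    (Or.inl (Coprime.isSolvable_zpowers b)) (k := h) (fun a ha => by
      have haS : a ∈ (S : Subgroup G) := zpowers_le.2 hb ha
      have hcm : a * (r * h) = r * h * a := by
        obtain ⟨i, rfl⟩ := mem_zpowers_iff.1 ha
        exact ((show Commute (r * h) b from heb).zpow_right i).symm.eq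
      have e : a * h * a⁻¹ * h⁻¹ = a * r⁻¹ * a⁻¹ * r := by
        calc a * h * a⁻¹ * h⁻¹ = a * r⁻¹ * a⁻¹ * (a * (r * h)) * a⁻¹ * h⁻¹ := by group
          _ = _ := by rw [hcm]; group
      refine mem_inf.2 ⟨?_, mul_mem (mul_mem (mul_mem (hF.S_le haS) hh)
        (Subgroup.inv_mem _ (hF.S_le haS))) (Subgroup.inv_mem _ hh)⟩
      rw [e]
      exact mul_mem (conj_mem_core (c.comm haS hx) (inv_mem hr)) hr)
  set h' := n * h with hh'
  have hh'H : h' ∈ H := mul_mem hn.2 hh
  have hh'x : h' * x = x * h' := ((show Commute n x from comm_of_mem_core hn.1).mul_left hhx).eq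
  have hh'b : h' * b = b * h' := (mem_centralizer_iff.1 hnb b (mem_zpowers b)).symm
  have hrC : r * h ∈ centralizer (zpowers x : Set G) := mem_cent.2 hex
  have hh'C : h' ∈ centralizer (zpowers x : Set G) := mem_cent.2 hh'x
  have hsC : s ∈ centralizer (zpowers x : Set G) := sylow_le_cent c hx hs
  have hdiff : (r * n⁻¹) ∈ centralizer (zpowers x : Set G) :=
    mem_cent.2 (comm_of_mem_core (mul_mem hr (inv_mem hn.1)))
  have heq : secHom _ (⟨r * h, hrC⟩ : centralizer (zpowers x : Set G)) = secHom _ ⟨h', hh'C⟩ := by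
    rw [show (⟨r * h, hrC⟩ : centralizer (zpowers x : Set G)) = ⟨r * n⁻¹, hdiff⟩ * ⟨h', hh'C⟩ from
      Subtype.ext (by show r * h = r * n⁻¹ * (n * h); group), map_mul,
      (secHom_eq_one_iff hdiff).2 (by rw [coreIn_cent]; exact mul_mem hr (inv_mem hn.1)), one_mul]
  have hnot' : h' ∉ Balance.coreIn 2 H := fun hmem => hnot (by
    have h1 := inf_core_le hF.cover hmem hh'x
    rw [← coreIn_cent x] at h1 ⊢
    rw [← secHom_eq_one_iff hrC, heq]
    exact (secHom_eq_one_iff hh'C).2 h1)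
  have hpow' : h' ^ p ∈ Balance.coreIn 2 H := by
    refine hcap _ (pow_mem hh'H p) ?_
    rw [← coreIn_cent x] at hpow ⊢
    refine (secHom_eq_one_iff (pow_mem hh'C p)).1 ?_
    rw [show (⟨h' ^ p, pow_mem hh'C p⟩ : centralizer (zpowers x : Set G)) = ⟨h', hh'C⟩ ^ p from rfl,
      map_pow, ← heq, ← map_pow]
    exact (secHom_eq_one_iff (pow_mem hrC p)).2 hpow
  have hflip' : s * h' * s⁻¹ * h' ∈ Balance.coreIn 2 H := by
    refine hcap _ (mul_mem (mul_mem (mul_mem (hF.S_le hs) hh'H) (Subgroup.inv_mem _ (hF.S_le hs))) hh'H) ?_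
    rw [← coreIn_cent x] at hflip ⊢
    refine (secHom_eq_one_iff (mul_mem (mul_mem (mul_mem hsC hh'C) (Subgroup.inv_mem _ hsC)) hh'C)).1 ?_
    show secHom _ ((⟨s, hsC⟩ : centralizer (zpowers x : Set G)) * ⟨h', hh'C⟩ * ⟨s, hsC⟩⁻¹ * ⟨h', hh'C⟩) = 1
    rw [map_mul, map_mul, map_mul, map_inv, ← heq, ← map_inv, ← map_mul, ← map_mul, ← map_mul]
    exact (secHom_eq_one_iff (mul_mem (mul_mem (mul_mem hsC hrC) (Subgroup.inv_mem _ hsC)) hrC)).2 hflip
  set d := q ⟨h', hh'H⟩ with hd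
  have hdo : orderOf d = p := by
    refine orderOf_eq_prime ?_ fun h1 => hnot' ((secHom_eq_one_iff hh'H).1 h1)
    rw [hd, ← map_pow]
    exact (secHom_eq_one_iff (pow_mem hh'H p)).2 hpow'
  have hdb : d * q ⟨b, hF.S_le hb⟩ = q ⟨b, hF.S_le hb⟩ * d := by
    rw [hd, ← map_mul, ← map_mul]
    exact congrArg q (Subtype.ext hh'b)
  have hdi : q ⟨s, hF.S_le hs⟩ * d * (q ⟨s, hF.S_le hs⟩)⁻¹ = d⁻¹ := by
    refine eq_inv_of_mul_eq_one_left ?_
    rw [hd, ← map_inv, ← map_mul, ← map_mul, ← map_mul]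
    exact (secHom_eq_one_iff _).2 hflip'
  have hidx := hcen.not_dvd_index hp2 hdo (proj_mem_secT hF.S_le hb) (sec_ne_one _ (c.sq b hb) hb1)
    (fun he => hbx (sec_inj hF.S_le c.sq hb hx he)) hdb (proj_mem_secT hF.S_le hs) hdi
    (proj_mem_secT hF.S_le hy) (sec_ne_one _ (c.sq y hy) hy1)
    (fun he => hyx (sec_inj hF.S_le c.sq hy hx he).symm)
  -- the core of `C(ȳ)` has index prime to `p`
  set Cb := centralizer ({q ⟨y, hyH⟩} : Set (Sec H)) with hCb
  set Ub := Cfsg.centralizerPPrimeCore 2 (q ⟨y, hyH⟩) with hUb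
  have hUbC : Ub ≤ Cb := Balance.centralizerPPrimeCore_le _
  have hxy := c.comm hx hy
  set CL := H ⊓ (centralizer ({x} : Set G) ⊓ centralizer ({y} : Set G)) with hCL
  have hSCL : (S : Subgroup G) ≤ CL := le_inf hF.S_le (le_inf (c.le_cent hx) (c.le_cent hy))
  have hcentS : ∀ m ∈ CL, m ∈ normalizer ((S : Subgroup G) : Set G) →
      ∀ s ∈ (S : Subgroup G), m * s = s * m := fun m hm hmn =>
    line_centralizes c hx hx1 hy hy1 hyx hmn (mem_centralizer_singleton_iff.1 hm.2.1)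
      (mem_centralizer_singleton_iff.1 hm.2.2)
  have hpUb : ∀ z ∈ Cb, Odd (orderOf z) → z ∈ Ub := by
    intro z hz hzo
    obtain ⟨g, hg, hgx, hgy, rfl⟩ := exists_lift_line hxH hyH (c.sq x hx) (c.sq y hy) hxy hcen.center
      (mem_centralizer_singleton_iff.1 hz)
    obtain ⟨u, hu, t, ht, rfl⟩ := exists_mul_of_centralizes hSCL hcentS
      (⟨hg, mem_centralizer_singleton_iff.2 hgx, mem_centralizer_singleton_iff.2 hgy⟩ : g ∈ CL)
    have hD := Balance.coreIn_le (p := 2) CL
    have huU : q ⟨u, (hD hu).1⟩ ∈ Ub :=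
      mem_line_sec hxH hyH (c.sq x hx) (c.sq y hy) hxy hcen.center (D := Balance.coreIn 2 CL)
        (hD.trans inf_le_left) (fun d hd => mem_centralizer_singleton_iff.1 (hD hd).2.2) (odd_coreIn _)
        (fun k hk hkx hky d hd => (mem_normalizer_iff.1 (Balance.le_normalizer_coreIn CL
          (⟨hk, mem_centralizer_singleton_iff.2 hkx, mem_centralizer_singleton_iff.2 hky⟩ : k ∈ CL)) d).1 hd)
        hu
    have hzz : q ⟨u * t, hg⟩ * q ⟨u * t, hg⟩ ∈ Ub := by
      have htC : q ⟨t, hF.S_le ht⟩ ∈ Cb := by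
        refine mem_centralizer_singleton_iff.2 ?_
        rw [← map_mul, ← map_mul]
        exact congrArg q (Subtype.ext (c.comm ht hy))
      rw [show (⟨u * t, hg⟩ : H) = ⟨u, (hD hu).1⟩ * ⟨t, hF.S_le ht⟩ from rfl, map_mul]
      have ht2 : q ⟨t, hF.S_le ht⟩ * q ⟨t, hF.S_le ht⟩ = 1 := by
        rw [← map_mul, show (⟨t, hF.S_le ht⟩ : H) * ⟨t, hF.S_le ht⟩ = 1 from Subtype.ext (c.sq t ht), map_one]
      rw [show ∀ A B : Sec H, A * B * (A * B) = A * (B * A * B⁻¹) * (B * B) from fun A B => by group,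
        ht2, mul_one]
      exact mul_mem huU ((mem_normalizer_iff.1
        (Balance.centralizer_le_normalizer_centralizerPPrimeCore _ htC) _).1 huU)
    obtain ⟨m, hm⟩ := hzo
    set z := q ⟨u * t, hg⟩
    have h4 : z = (z * z) ^ (m + 1) := by
      rw [← pow_two, ← pow_mul, show 2 * (m + 1) = orderOf z + 1 by omega, pow_succ,
        pow_orderOf_eq_one, one_mul]
    rw [h4]
    exact pow_mem hzz _
  have hUbidx : ¬ p ∣ Ub.index := by
    rw [← relIndex_mul_index hUbC]
    refine hp.out.not_dvd_mul ?_ hidx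
    obtain ⟨Pc⟩ : Nonempty (Sylow p Cb) := inferInstance
    have hle : (Pc : Subgroup Cb) ≤ Ub.subgroupOf Cb := by
      intro z hz
      refine mem_subgroupOf.2 (hpUb z z.2 ?_)
      obtain ⟨k, hk⟩ := IsPGroup.iff_orderOf.1 Pc.2 ⟨z, hz⟩
      rw [Subgroup.orderOf_mk] at hk
      rw [Subgroup.orderOf_coe, hk]
      exact (hp.out.odd_of_ne_two hp2).pow
    exact fun hd => Pc.not_dvd_index (hd.trans (index_dvd_of_le hle))
  set Vc := Ub.comap q with hVc
  have hVidx : Vc.index = Ub.index := index_comap_of_surjective _ (secHom_surjective H)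
  have hVodd : Odd (Nat.card Vc) := by
    have h1 := Vc.card_mul_index
    have h2 := Ub.card_mul_index
    have h3 := Subgroup.card_eq_card_quotient_mul_card_subgroup (Cfsg.oddCore ↥H)
    have hne : Ub.index ≠ 0 := Subgroup.index_ne_zero_of_finite
    have h4 : Nat.card Vc = Nat.card ↥(Cfsg.oddCore ↥H) * Nat.card Ub := by
      refine Nat.eq_of_mul_eq_mul_right (Nat.pos_of_ne_zero hne) ?_
      rw [mul_assoc, h2, ← hVidx, h1, h3, mul_comm]
    rw [h4]
    exact Cores.oddCore_odd.mul (Nat.coprime_two_right.1 (Balance.coreIn_coprime _))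
  set V := Vc.map H.subtype with hV
  have hVo : Odd (Nat.card V) := hVodd.of_dvd_nat (card_map_dvd _ _)
  have hSV : (S : Subgroup G) ≤ normalizer (V : Set G) := by
    have hfwd : ∀ a ∈ (S : Subgroup G), ∀ v ∈ V, a * v * a⁻¹ ∈ V := by
      rintro a ha _ ⟨v, hv, rfl⟩
      refine ⟨⟨a, hF.S_le ha⟩ * v * ⟨a, hF.S_le ha⟩⁻¹, ?_, rfl⟩
      show q (⟨a, hF.S_le ha⟩ * v * ⟨a, hF.S_le ha⟩⁻¹) ∈ Ub
      rw [map_mul, map_mul, map_inv]
      refine (mem_normalizer_iff.1 (Balance.centralizer_le_normalizer_centralizerPPrimeCore _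
        (mem_centralizer_singleton_iff.2 ?_)) _).1 hv
      rw [← map_mul, ← map_mul]
      exact congrArg q (Subtype.ext (c.comm ha hy))
    intro a ha
    refine mem_normalizer_iff.2 fun v => ⟨hfwd a ha v, fun hv => ?_⟩
    have := hfwd a⁻¹ (inv_mem ha) _ hv
    simpa [mul_assoc] using this
  have hXV : X ≤ V := by
    intro a ha
    refine ⟨⟨a, hF.X_le ha⟩, ?_, rfl⟩
    exact mem_line_sec hxH hyH (c.sq x hx) (c.sq y hy) hxy hcen.center (D := lineCore x y ⊓ H)
      inf_le_right (fun d hd => (mem_lineCore_comm hd.1).2)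
      ((odd_coreIn _).of_dvd_nat (card_dvd_of_le inf_le_left))
      (fun k hk hkx hky d hd => ⟨(mem_normalizer_iff.1 (Balance.le_normalizer_coreIn _
        (mem_inf.2 ⟨mem_centralizer_singleton_iff.2 hkx, mem_centralizer_singleton_iff.2 hky⟩)) d).1 hd.1,
        mul_mem (mul_mem hk hd.2) (Subgroup.inv_mem _ hk)⟩)
      (d := a) ⟨hB.le ha, hF.X_le ha⟩
  obtain ⟨P, hXP, hSP⟩ := Coprime.exists_invariant_sylow_ge hSV (c.coprime_of_odd hVo)
    (Or.inl c.solvable) p X hXV (IsPGroup.of_card hB.card) hB.inv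
  refine ⟨(P : Subgroup V).map V.subtype, (map_subtype_le _).trans (map_subtype_le _), ?_, hXP, hSP⟩
  rw [Coprime.card_sylow_map, hV, card_map_of_injective H.subtype_injective]
  congr 1
  have h1 := Vc.card_mul_index
  have hz : (Vc.index).factorization p = 0 :=
    Nat.factorization_eq_zero_of_not_dvd (by rw [hVidx]; exact hUbidx)
  rw [← h1, Nat.factorization_mul Nat.card_pos.ne' Subgroup.index_ne_zero_of_finite,
    Finsupp.add_apply, hz, add_zero]

/-- From a member to the normaliser of `ZJ` of its Sylow subgroup. -/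
theorem step (c : Ctx S) (hp2 : p ≠ 2) (hx : x ∈ (S : Subgroup G)) (hx1 : x ≠ 1)
    (hy : y ∈ (S : Subgroup G)) (hy1 : y ≠ 1) (hyx : x ≠ y) (hB : Bad S x y p e X)
    (htor : Tor S p x) (hF : Fam S x X H) :
    ∃ P : Subgroup G, P ≤ H ∧ Nat.card P = p ^ (Nat.card H).factorization p ∧ X ≤ P ∧
      normalizer (P : Set G) ≤ normalizer (Cfsg.centerThompsonAOf P : Set G) ∧
      Fam S x X (normalizer (Cfsg.centerThompsonAOf P : Set G)) := by
  haveI : Fact (Nat.Prime 2) := ⟨Nat.prime_two⟩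
  obtain ⟨⟨K, hcen⟩, hcap⟩ := hF.central c hx hx1 hy hy1
    (fun a ha => (mem_lineCore_comm (hB.le ha)).2) hB.mem hB.mem_core hB.not_mem
  obtain ⟨P, hPH, hPc, hXP, hSP⟩ := exists_sylow_member c hp2 hx hx1 hy hy1 hyx hB htor hF hcen hcap
  have hxH := hF.S_le hx
  haveI hKn := comp_normal hcen.good hcen.eight hcen.comp
  haveI := hcen.good.simple hcen.comp
  set q := secHom H with hq
  have hxo : ∀ a ∈ X ⊓ core x, a ∈ Balance.coreIn 2 H := fun a ha => hcap a (hF.X_le ha.1) ha.2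
  set W : Set H := {w : H | (w : G) ∈ (S : Subgroup G) ∧ q w ∈ K} with hW
  set D := (X ⊓ core x).subgroupOf H with hD
  have hXp : IsPGroup p X := IsPGroup.of_card hB.card
  have hDp : IsPGroup p D := (hXp.to_le inf_le_left).comap_subtype
  have hDR : D ≤ Cfsg.oddCore ↥H := fun a ha => by
    have h := (secHom_eq_one_iff a.2).2 (hxo _ (mem_subgroupOf.1 ha))
    exact (QuotientGroup.eq_one_iff _).1 h
  have hSD : ∀ w ∈ W, ∀ a ∈ D, w * a * w⁻¹ ∈ D := fun w hw a ha => by
    have h := mem_subgroupOf.1 ha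
    exact mem_subgroupOf.2 ⟨(mem_normalizer_iff.1 (hB.inv hw.1) _).1 h.1,
      conj_mem_core (c.comm hw.1 hx) h.2⟩
  obtain ⟨w₀, hw₀, a₀, ha₀, hne⟩ : ∃ w ∈ W, ∃ a ∈ D, w * a * w⁻¹ ≠ a := by
    by_contra hno
    push Not at hno
    obtain ⟨s, hs, hse⟩ := hB.flip
    have heD : (⟨e, hF.X_le hB.mem⟩ : H) ∈ D := mem_subgroupOf.2 ⟨hB.mem, hB.mem_core⟩
    have hse' : s * e * s⁻¹ = e := by
      obtain ⟨v, hv, hsv⟩ := hcen.split (proj_mem_secT hF.S_le hs)
      obtain ⟨s₁, hs₁, rfl⟩ := (mem_secT hF.S_le).1 hv.1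
      have h1 := congrArg Subtype.val (hno ⟨s₁, hF.S_le hs₁⟩ ⟨hs₁, hv.2⟩ _ heD)
      rcases hsv with h | h
      · exact (sec_inj hF.S_le c.sq hs hs₁ h) ▸ h1
      · rw [← map_mul] at h
        have h2 := sec_inj hF.S_le c.sq hs (mul_mem hs₁ hx) h
        subst h2
        calc s₁ * x * e * (s₁ * x)⁻¹ = s₁ * (x * e * x⁻¹) * s₁⁻¹ := by group
          _ = e := by
            rw [← comm_of_mem_core hB.mem_core, mul_inv_cancel_right]; exact h1
    rw [hse'] at hse
    obtain ⟨m, hm⟩ : Odd (orderOf e) :=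
      (odd_core x).of_dvd_nat (Subgroup.orderOf_dvd_natCard _ hB.mem_core)
    refine hB.not_mem ?_
    have h4 : e = (e * e) ^ (m + 1) := by
      rw [← pow_two, ← pow_mul, show 2 * (m + 1) = orderOf e + 1 by omega, pow_succ,
        pow_orderOf_eq_one, one_mul]
    rw [h4]
    exact pow_mem hse _
  have hxc : ∀ g : H, g * ⟨x, hxH⟩ * g⁻¹ * (⟨x, hxH⟩ : H)⁻¹ ∈ Cfsg.oddCore ↥H := fun g => by
    rw [← QuotientGroup.eq_one_iff]
    show q _ = 1
    rw [map_mul, map_mul, map_mul, map_inv, map_inv, mem_center_iff.1 hcen.center (q g),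
      mul_inv_cancel_right, mul_inv_cancel]
  have hx2 : (⟨x, hxH⟩ : H) * ⟨x, hxH⟩ = 1 := Subtype.ext (c.sq x hx)
  have hdich : ∀ N : Subgroup H, N.Normal → Cfsg.oddCore ↥H ≤ N →
      N ≤ Cfsg.oddCore ↥H ⊔ zpowers ⟨x, hxH⟩ ∨ W ⊆ N := by
    intro N hN hRN
    haveI hNb : (N.map q).Normal := Subgroup.Normal.map hN q (secHom_surjective H)
    rcases Subgroup.Normal.eq_bot_or_eq_top (inferInstance : ((N.map q).subgroupOf K).Normal) with h | h
    · left
      intro n hn
      have hnC : q n ∈ centralizer (K : Set (Sec H)) := mem_centralizer_iff.2 fun k hk => by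
        have h1 : q n * k * (q n)⁻¹ * k⁻¹ ∈ K := mul_mem (hKn.conj_mem k hk _) (inv_mem hk)
        have h2 : q n * k * (q n)⁻¹ * k⁻¹ ∈ N.map q := by
          rw [show q n * k * (q n)⁻¹ * k⁻¹ = q n * (k * (q n)⁻¹ * k⁻¹) by group]
          exact mul_mem (mem_map_of_mem q hn) (hNb.conj_mem _ (inv_mem (mem_map_of_mem q hn)) k)
        have h3 : (⟨_, h1⟩ : K) ∈ (N.map q).subgroupOf K := h2
        rw [h, mem_bot] at h3
        exact (mul_inv_eq_iff_eq_mul.1 (mul_inv_eq_one.1 (congrArg Subtype.val h3))).symm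
      rcases hcen.centralizer_le _ hnC with h1 | h1
      · exact mem_sup_left ((QuotientGroup.eq_one_iff n).1 h1)
      · have h2 : n * (⟨x, hxH⟩ : H)⁻¹ ∈ Cfsg.oddCore ↥H := by
          rw [← QuotientGroup.eq_one_iff]
          show q _ = 1
          rw [map_mul, map_inv, h1, mul_inv_cancel]
        have h3 := mul_mem (mem_sup_left h2 : _ ∈ Cfsg.oddCore ↥H ⊔ zpowers ⟨x, hxH⟩)
          (mem_sup_right (mem_zpowers _))
        rwa [inv_mul_cancel_right] at h3
    · right
      intro w hw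
      obtain ⟨n, hn, hnw⟩ : q w ∈ N.map q := subgroupOf_eq_top.1 h hw.2
      have h2 : w * n⁻¹ ∈ Cfsg.oddCore ↥H := by
        rw [← QuotientGroup.eq_one_iff]
        show q _ = 1
        rw [map_mul, map_inv, hnw, mul_inv_cancel]
      have := mul_mem (hRN h2) hn
      rwa [inv_mul_cancel_right] at this
  obtain ⟨hcoreH, hconstr⟩ := centralizer_pCore_le_of (p := p) (R := Cfsg.oddCore ↥H)
    Cores.oddCore_odd hx2 hxc W (fun w hw => Subtype.ext (c.sq _ hw.1)) hdich hDR hDp hSD hw₀ ha₀ hne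
  have hno : PLocal.NoSLTwo p H :=
    PLocal.noSLTwo_subgroup (PLocal.noSLTwo_of_abelian_sylow_two hp2 S (c.hyp.abelian S)) H
  obtain ⟨Ps, hPs⟩ := Coprime.exists_sylow_of_card hPH hPc
  have hsup := zj_sup hp2 hno hconstr Ps
  set Z := Cfsg.centerThompsonAOf P with hZ
  set M := normalizer (Z : Set G) with hM
  have hNP : normalizer (P : Set G) ≤ M := fun g hg => by
    refine mem_normalizer_iff_map_conj_eq.2 ?_
    rw [hZ, ZJ.map_centerThompsonAOf _ (MulAut.conj g).injective, mem_normalizer_iff_map_conj_eq.1 hg]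
  have hSM : (S : Subgroup G) ≤ M := hSP.trans hNP
  have hXM : X ≤ M := hXP.trans (le_normalizer.trans hNP)
  have hPp : IsPGroup p P := IsPGroup.of_card hPc
  have hMtop : M ≠ ⊤ := by
    intro htop
    haveI := c.hyp.simple
    rcases (normalizer_eq_top_iff.1 htop).eq_bot_or_eq_top with h | h
    · refine BenderOne.LocalTools.zj_ne_bot hPp (fun hb => hB.not_mem ?_) h
      have h1 := hXP hB.mem
      rw [hb, mem_bot] at h1
      rw [h1]; exact one_mem _
    · exact hF.ne_top (eq_top_iff.2 (h.symm.le.trans ((ZJ.centerThompsonAOf_le P).trans hPH)))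
  have hcov : ∀ g : G, g * x = x * g → ∃ r ∈ core x, ∃ h ∈ M, h * x = x * h ∧ g = r * h := by
    intro g hg
    obtain ⟨r, hr, h, hh, hhx, rfl⟩ := hF.cover g hg
    set NH := normalizer (Cfsg.centerThompsonAOf (Ps : Subgroup H) : Set H) with hNH
    have hNHM : ∀ n ∈ NH, (n : G) ∈ M := fun n hn => by
      have h1 := Subgroup.le_normalizer_map H.subtype ⟨n, hn, rfl⟩
      rw [ZJ.map_centerThompsonAOf _ H.subtype_injective, hPs] at h1
      exact h1
    have hxNH : (⟨x, hxH⟩ : H) ∈ NH := by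
      refine mem_normalizer_iff_map_conj_eq.2 ?_
      rw [ZJ.map_centerThompsonAOf _ (MulAut.conj (⟨x, hxH⟩ : H)).injective]
      congr 1
      apply map_injective H.subtype_injective
      rw [map_map, show H.subtype.comp ((MulAut.conj (⟨x, hxH⟩ : H)) : H →* H) =
        ((MulAut.conj x) : G →* G).comp H.subtype from rfl, ← map_map, hPs]
      exact mem_normalizer_iff_map_conj_eq.1 (hSP hx)
    have htop : Cfsg.oddCore ↥H ⊔ NH = ⊤ := by
      refine eq_top_iff.2 (hsup ▸ sup_le (hcoreH.trans (sup_le le_sup_left ?_)) le_sup_right)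
      exact (zpowers_le.2 hxNH).trans le_sup_right
    have hmem : (⟨h, hh⟩ : H) ∈ NH ⊔ Cfsg.oddCore ↥H := by rw [sup_comm, htop]; exact mem_top _
    obtain ⟨n, hn, k, hk, hnk⟩ := Coprime.exists_mul_of_mem_sup
      (by rw [normalizer_eq_top_iff.2 inferInstance]; exact le_top) hmem
    have hk' : ((n * k * n⁻¹ : H) : G) ∈ Balance.coreIn 2 H :=
      mem_map_of_mem _ ((inferInstance : (Cfsg.oddCore ↥H).Normal).conj_mem k hk n)
    set Y := H ⊓ M with hY
    have hxY : zpowers x ≤ normalizer (Y : Set G) := zpowers_le.2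
      (le_normalizer (⟨hxH, hSM hx⟩ : x ∈ Y))
    have hfix : ((n * k * n⁻¹ : H) : G) * (n : G) ∈ centralizer (zpowers x : Set G) := by
      refine mem_cent.2 ?_
      have : ((n * k * n⁻¹ : H) : G) * (n : G) = h := by
        have := congrArg Subtype.val hnk
        simp only [Subgroup.coe_mul, Subgroup.coe_inv, inv_mul_cancel_right] at this ⊢
        exact this.symm
      rw [this]; exact hhx
    obtain ⟨k', hk'm, n', hn'm, heq⟩ := Coprime.exists_mul_eq_of_fixed (A := zpowers x)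
      ((zpowers_le.2 hxH).trans (Balance.le_normalizer_coreIn H)) hxY (by
        rw [Nat.card_zpowers]
        exact (Nat.coprime_two_left.2 ((odd_coreIn H).of_dvd_nat (card_dvd_of_le inf_le_left))).coprime_dvd_left
          (orderOf_dvd_of_pow_eq_one (by rw [pow_two]; exact c.sq x hx)))
      (Or.inl (Coprime.isSolvable_zpowers x)) hk' (⟨n.2, hNHM n hn⟩ : (n : G) ∈ Y) hfix
    refine ⟨r * k', mul_mem hr (inf_core_le hF.cover hk'm.1 (mem_cent.1 hk'm.2)), n', hn'm.1.2,
      mem_cent.1 hn'm.2, ?_⟩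
    rw [mul_assoc, ← heq]
    congr 1
    have := congrArg Subtype.val hnk
    simp only [Subgroup.coe_mul, Subgroup.coe_inv, inv_mul_cancel_right] at this ⊢
    exact this
  exact ⟨P, hPH, hPc, hXP, hNP, hMtop, hSM, hcov, hXM⟩

end Cfsg.Agent.Lib.Walter.JRBal
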